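import Groth.Agent.BlowExist.Chart
import Groth.Agent.ModPairLib.Glue

/-!
The blowing up of `Spec R` in an arbitrary ideal: colimit of the chart spectra, universal property.
-/

set_option autoImplicit false
set_option maxHeartbeats 800000
universe u

open CategoryTheory Limits AlgebraicGeometry TopologicalSpace
open scoped nonZeroDivisors

namespace Groth.Agent.BlowExist

variable {R : Type u} [CommRing R] (I : Ideal R)

/-- The ideal sheaf on `Spec R` of an ideal of `R`. -/
noncomputable def topId (I : Ideal R) : (Spec (CommRingCat.of R)).IdealSheafData :=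
  Scheme.IdealSheafData.ofIdealTop (I.map (Scheme.ΓSpecIso (CommRingCat.of R)).inv.hom)

theorem ideal_topId (I : Ideal R) :
    (topId I).ideal ⟨⊤, isAffineOpen_top _⟩ = I.map (Scheme.ΓSpecIso (CommRingCat.of R)).inv.hom := by
  simp [topId]

theorem comap_topId {S : Type u} [CommRing S] (φ : R →+* S) (I : Ideal R) :
    (topId I).comap (Spec.map (CommRingCat.ofHom φ)) = topId (I.map φ) := by
  refine Scheme.IdealSheafData.ext_of_isAffine ?_
  rw [FpqcDescent.ideal_comap_top, ideal_topId, ideal_topId, Ideal.map_map, Ideal.map_map]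
  congr 1
  exact congrArg CommRingCat.Hom.hom (Scheme.ΓSpecIso_inv_naturality (CommRingCat.ofHom φ)).symm

theorem isEffCartier_topId {e : R} (he : e ∈ R⁰) : BlowUp.IsEffCartierIdeal (topId (Ideal.span {e})) := by
  intro x
  refine ⟨⟨⊤, isAffineOpen_top _⟩, trivial, (Scheme.ΓSpecIso (CommRingCat.of R)).inv.hom e, ?_, ?_⟩
  · exact mem_nonZeroDivisors_of_injective (f := (Scheme.ΓSpecIso (CommRingCat.of R)).hom.hom)
      (ConcreteCategory.bijective_of_isIso (Scheme.ΓSpecIso (CommRingCat.of R)).hom).1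
      (by simpa [← CommRingCat.comp_apply] using he)
  · rw [ideal_topId, Ideal.map_span, Set.image_singleton]

/-- Nonempty finite subsets of `I`, ordered by reverse inclusion. -/
@[ext]
structure Idx where
  carrier : Finset R
  nonempty : carrier.Nonempty
  subset : (carrier : Set R) ⊆ I

instance : PartialOrder (Idx I) where
  le S T := T.carrier ⊆ S.carrier
  le_refl S := Finset.Subset.refl S.carrier
  le_trans S T U h h' := Finset.Subset.trans h' h
  le_antisymm S T h h' := Idx.ext (Finset.Subset.antisymm h' h)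

open Classical in
noncomputable def Idx.union (S T : Idx I) : Idx I :=
  ⟨S.carrier ∪ T.carrier, S.nonempty.mono Finset.subset_union_left, by
    rw [Finset.coe_union]; exact Set.union_subset S.subset T.subset⟩

theorem Idx.union_le_left (S T : Idx I) : Idx.union I S T ≤ S := by
  classical exact Finset.subset_union_left

theorem Idx.union_le_right (S T : Idx I) : Idx.union I S T ≤ T := by
  classical exact Finset.subset_union_right

/-- The singleton index. -/
def Idx.single {s : R} (hs : s ∈ I) : Idx I := ⟨{s}, Finset.singleton_nonempty s, by simpa using hs⟩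

/-- The diagram of chart spectra. -/
noncomputable def diagram : Idx I ⥤ Scheme.{u} where
  obj S := Spec (CommRingCat.of (chart I S.carrier))
  map {S T} h := Spec.map (CommRingCat.ofHom (trans I (leOfHom h)))
  map_id S := by
    show Spec.map (CommRingCat.ofHom (trans I (Finset.Subset.refl S.carrier))) = _
    rw [trans_id]
    exact Spec.map_id _
  map_comp {S T U} h h' := by
    show Spec.map _ = Spec.map _ ≫ Spec.map _
    rw [← Spec.map_comp, ← CommRingCat.ofHom_comp]
    exact congrArg (fun φ => Spec.map (CommRingCat.ofHom φ)) (trans_trans I (leOfHom h') (leOfHom h)).symm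

theorem isOpenImmersion_trans {S T : Finset R} (hST : S ⊆ T) (hT : (T : Set R) ⊆ I) {s₀ : R} (hs₀ : s₀ ∈ S) :
    IsOpenImmersion (Spec.map (CommRingCat.ofHom (trans I hST))) ∧
      Set.range (Spec.map (CommRingCat.ofHom (trans I hST))).base =
        ((PrimeSpectrum.basicOpen (dvs I hT hs₀) : Opens (PrimeSpectrum (chart I S))) : Set (PrimeSpectrum (chart I S))) := by
  letI := (trans I hST).toAlgebra
  haveI : IsLocalization.Away (dvs I hT hs₀) (chart I T) := isLocalization_trans I hST hT hs₀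
  exact ⟨IsOpenImmersion.of_isLocalization (dvs I hT hs₀),
    PrimeSpectrum.localization_away_comap_range (chart I T) (dvs I hT hs₀)⟩

instance {S T : Idx I} (h : S ⟶ T) : IsOpenImmersion ((diagram I).map h) := by
  obtain ⟨t₀, ht₀⟩ := T.nonempty
  exact (isOpenImmersion_trans I (leOfHom h) S.subset ht₀).1

theorem mem_range_map {S T : Idx I} (h : S ⟶ T) {t₀ : R} (ht₀ : t₀ ∈ T.carrier)
    (x : (diagram I).obj T) :
    x ∈ Set.range ((diagram I).map h).base ↔
      x ∈ ((PrimeSpectrum.basicOpen (dvs I S.subset ht₀) : Opens (PrimeSpectrum (chart I T.carrier))) :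
        Set (PrimeSpectrum (chart I T.carrier))) :=
  Set.ext_iff.1 (isOpenImmersion_trans I (leOfHom h) S.subset ht₀).2 x

instance : (diagram I ⋙ Scheme.forget).IsLocallyDirected where
  cond {S T U} fS fT xS xT h := by
    obtain ⟨u₀, hu₀⟩ := U.nonempty
    let W := Idx.union I S T
    have hW : W ⟶ U := homOfLE ((Idx.union_le_left I S T).trans (leOfHom fS))
    have h' : ((diagram I).map fS).base xS = ((diagram I).map fT).base xT := h
    have h1 := (mem_range_map I fS hu₀ _).1 ⟨xS, rfl⟩
    have h2 := (mem_range_map I fT hu₀ _).1 ⟨xT, rfl⟩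
    rw [← h'] at h2
    have h3 : ((diagram I).map fS).base xS ∈ Set.range ((diagram I).map hW).base := by
      rw [mem_range_map I hW hu₀]
      intro hmem
      classical
      obtain ⟨⟨t, ht⟩, -, ht'⟩ := (PrimeSpectrum.isPrime _).prod_mem_iff.1 (show _ ∈ _ from hmem)
      have ht2 : t ∈ S.carrier ∪ T.carrier := ht
      rcases Finset.mem_union.1 ht2 with ht3 | ht3
      · exact q_notMem_of_dvs I S.subset hu₀ ht3 _ h1 ht'
      · exact q_notMem_of_dvs I T.subset hu₀ ht3 _ h2 ht'
    obtain ⟨y, hy⟩ := h3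
    refine ⟨W, homOfLE (Idx.union_le_left I S T), homOfLE (Idx.union_le_right I S T), y, ?_, ?_⟩
    · apply ((diagram I).map fS).isOpenEmbedding.injective
      rw [← hy]
      show (((diagram I).map (homOfLE (Idx.union_le_left I S T))) ≫ (diagram I).map fS).base y = _
      rw [← (diagram I).map_comp]
      rfl
    · apply ((diagram I).map fT).isOpenEmbedding.injective
      rw [← h', ← hy]
      show (((diagram I).map (homOfLE (Idx.union_le_right I S T))) ≫ (diagram I).map fT).base y = _
      rw [← (diagram I).map_comp]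
      rfl

/-- The blowing up of `Spec R` in `I`. -/
noncomputable abbrev blow : Scheme.{u} := colimit (diagram I)

/-- A chart. -/
noncomputable abbrev ι (S : Idx I) : Spec (CommRingCat.of (chart I S.carrier)) ⟶ blow I :=
  colimit.ι (diagram I) S

instance (S : Idx I) : IsOpenImmersion (ι I S) := inferInstanceAs (IsOpenImmersion (colimit.ι (diagram I) S))

theorem ι_trans {S T : Idx I} (h : S ≤ T) :
    Spec.map (CommRingCat.ofHom (trans I h)) ≫ ι I T = ι I S :=
  colimit.w (diagram I) (homOfLE h)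

/-- The structure morphism. -/
noncomputable def toBase : blow I ⟶ Spec (CommRingCat.of R) :=
  colimit.desc (diagram I)
    { pt := Spec (CommRingCat.of R)
      ι :=
        { app := fun S => Spec.map (CommRingCat.ofHom (algebraMap R (chart I S.carrier)))
          naturality := fun S T h => by
            show Spec.map _ ≫ Spec.map _ = Spec.map _ ≫ 𝟙 _
            rw [Category.comp_id, ← Spec.map_comp, ← CommRingCat.ofHom_comp]
            exact congrArg (fun φ => Spec.map (CommRingCat.ofHom φ)) (trans_comp I (leOfHom h)) } }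

@[reassoc]
theorem ι_toBase (S : Idx I) : ι I S ≫ toBase I = Spec.map (CommRingCat.ofHom (algebraMap R (chart I S.carrier))) :=
  colimit.ι_desc _ _

theorem jointly_surjective (y : blow I) : ∃ (S : Idx I) (x : Spec (CommRingCat.of (chart I S.carrier))),
    (ι I S).base x = y :=
  Scheme.IsLocallyDirected.ι_jointly_surjective (diagram I) y

theorem exists_common {S T : Idx I} {x : Spec (CommRingCat.of (chart I S.carrier))}
    {y : Spec (CommRingCat.of (chart I T.carrier))} (h : (ι I S).base x = (ι I T).base y) :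
    ∃ (U : Idx I) (hS : U ≤ S) (hT : U ≤ T) (z : Spec (CommRingCat.of (chart I U.carrier))),
      (Spec.map (CommRingCat.ofHom (trans I hS))).base z = x ∧
        (Spec.map (CommRingCat.ofHom (trans I hT))).base z = y := by
  obtain ⟨U, fS, fT, z, hz, hz'⟩ := (Scheme.IsLocallyDirected.ι_eq_ι_iff (diagram I) (i := S) (j := T)).1 h
  exact ⟨U, leOfHom fS, leOfHom fT, z, hz, hz'⟩

theorem map_eq_span {B : Type u} [CommRing B] {φ : R →+* B} {s : R} (hs : s ∈ I) (h : ∀ x ∈ I, φ s ∣ φ x) :
    I.map φ = Ideal.span {φ s} :=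
  le_antisymm (Ideal.map_le_iff_le_comap.2 fun x hx => Ideal.mem_span_singleton.2 (h x hx))
    ((Ideal.span_singleton_le_iff_mem _).2 (Ideal.mem_map_of_mem φ hs))

theorem isEffCartier_comap_toBase : BlowUp.IsEffCartierIdeal ((topId I).comap (toBase I)) := by
  refine ModPairLib.isEffCartier_of_local fun y => ?_
  obtain ⟨S, x, rfl⟩ := jointly_surjective I y
  obtain ⟨s, hs⟩ := S.nonempty
  refine ⟨_, ι I S, inferInstance, ⟨x, rfl⟩, ?_⟩
  rw [← Scheme.IdealSheafData.comap_comp, ι_toBase, comap_topId,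
    map_eq_span I (S.subset hs) (admits_chart I S.carrier s hs).2]
  exact isEffCartier_topId (admits_chart I S.carrier s hs).1

theorem exists_preimage_hom {B C : Type u} [CommRing B] [CommRing C]
    (k : Spec (CommRingCat.of B) ⟶ Spec (CommRingCat.of C)) :
    ∃ ψ : C →+* B, Spec.map (CommRingCat.ofHom ψ) = k :=
  ⟨(Spec.preimage k).hom, Spec.map_preimage k⟩

theorem specMap_inj {B C : Type u} [CommRing B] [CommRing C] {φ ψ : C →+* B}
    (h : Spec.map (CommRingCat.ofHom φ) = Spec.map (CommRingCat.ofHom ψ)) : φ = ψ :=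
  congrArg CommRingCat.Hom.hom (Spec.map_injective h)

variable {I}

theorem admits_union {B : Type u} [CommRing B] {φ : R →+* B} {s : R} (hs : s ∈ I) (hφ : Admits I {s} φ)
    {S : Idx I} (ψ : chart I S.carrier →+* B) (hψ : ψ.comp (algebraMap R (chart I S.carrier)) = φ) :
    Admits I (Idx.union I (Idx.single I hs) S).carrier φ := by
  classical
  intro t ht
  have ht2 : t ∈ ({s} : Finset R) ∪ S.carrier := ht
  rcases Finset.mem_union.1 ht2 with ht3 | ht3
  · exact hφ t ht3
  · obtain ⟨hs0, hdiv⟩ := hφ s (Finset.mem_singleton_self s)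
    obtain ⟨c, hc⟩ := hdiv t (S.subset ht3)
    have hq := congrArg ψ (mul_q I S.carrier ht3 hs)
    rw [map_mul] at hq
    simp only [← RingHom.comp_apply, hψ] at hq
    have hu : IsUnit c := by
      refine IsUnit.of_mul_eq_one (ψ (q I S.carrier ht3 hs)) (sub_eq_zero.1 (hs0.1 _ ?_))
      rw [hc] at hq
      linear_combination hq
    rw [hc]
    exact ⟨mul_mem hs0 hu.mem_nonZeroDivisors, fun x hx => hu.mul_right_dvd.2 (hdiv x hx)⟩

theorem range_le_of_admits {B : Type u} [CommRing B] {φ : R →+* B} {s : R} (hs : s ∈ I) (hφ : Admits I {s} φ)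
    (h : Spec (CommRingCat.of B) ⟶ blow I) (hh : h ≫ toBase I = Spec.map (CommRingCat.ofHom φ)) :
    Set.range h.base ⊆ Set.range (ι I (Idx.single I hs)).base := by
  rintro _ ⟨z, rfl⟩
  obtain ⟨S, x, hx⟩ := jointly_surjective I (h.base z)
  obtain ⟨_, ⟨f, rfl⟩, hzf, hf⟩ := PrimeSpectrum.isTopologicalBasis_basic_opens.exists_subset_of_mem_open
    (show z ∈ (h ⁻¹ᵁ (ι I S).opensRange : (Spec (CommRingCat.of B)).Opens) from ⟨x, hx⟩)
    (h ⁻¹ᵁ (ι I S).opensRange).isOpen
  let j := Spec.map (CommRingCat.ofHom (algebraMap B (Localization.Away f)))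
  have hj : Set.range j.base = ((PrimeSpectrum.basicOpen f : Opens (PrimeSpectrum B)) : Set (PrimeSpectrum B)) :=
    PrimeSpectrum.localization_away_comap_range (Localization.Away f) f
  have hr : Set.range (j ≫ h).base ⊆ Set.range (ι I S).base := by
    rintro _ ⟨w, rfl⟩
    exact hf (hj ▸ ⟨w, rfl⟩ : j.base w ∈ (PrimeSpectrum.basicOpen f : Set (PrimeSpectrum B)))
  obtain ⟨ψ, hψ⟩ := exists_preimage_hom (IsOpenImmersion.lift (ι I S) (j ≫ h) hr)
  have hψ' : ψ.comp (algebraMap R (chart I S.carrier)) = (algebraMap B (Localization.Away f)).comp φ := by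
    apply specMap_inj
    rw [CommRingCat.ofHom_comp, CommRingCat.ofHom_comp, Spec.map_comp, Spec.map_comp, hψ, ← ι_toBase I S,
      IsOpenImmersion.lift_fac_assoc, Category.assoc, hh]
  have hA : Admits I {s} ((algebraMap B (Localization.Away f)).comp φ) := fun t ht =>
    ⟨IsLocalization.map_nonZeroDivisors_le (Submonoid.powers f) (Localization.Away f) ⟨_, (hφ t ht).1, rfl⟩,
      fun x hx => map_dvd (algebraMap B (Localization.Away f)) ((hφ t ht).2 x hx)⟩
  have hU := admits_union hs hA ψ hψ'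
  obtain ⟨χ, hχ⟩ := exists_hom hU
  have hψχ : ψ = χ.comp (trans I (Idx.union_le_right I (Idx.single I hs) S)) :=
    hom_ext (hU.mono (Idx.union_le_right I (Idx.single I hs) S)) hψ'
      (by rw [RingHom.comp_assoc, trans_comp, hχ])
  obtain ⟨w, rfl⟩ : z ∈ Set.range j.base := hj.symm ▸ hzf
  have e : j ≫ h = (Spec.map (CommRingCat.ofHom χ) ≫
      Spec.map (CommRingCat.ofHom (trans I (Idx.union_le_left I (Idx.single I hs) S)))) ≫ ι I (Idx.single I hs) := by
    rw [← IsOpenImmersion.lift_fac (ι I S) (j ≫ h) hr, ← hψ, hψχ, CommRingCat.ofHom_comp, Spec.map_comp,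
      Category.assoc, Category.assoc, ι_trans, ι_trans]
  rw [← Scheme.Hom.comp_apply, e, Scheme.Hom.comp_apply]
  exact ⟨_, rfl⟩

theorem exists_hom_affine {B : Type u} [CommRing B] {φ : R →+* B} {s : R} (hs : s ∈ I) (hφ : Admits I {s} φ) :
    ∃ h : Spec (CommRingCat.of B) ⟶ blow I, h ≫ toBase I = Spec.map (CommRingCat.ofHom φ) := by
  obtain ⟨ψ, hψ⟩ := exists_hom hφ
  exact ⟨Spec.map (CommRingCat.ofHom ψ) ≫ ι I (Idx.single I hs),
    (Category.assoc _ _ _).trans ((congrArg (Spec.map _ ≫ ·) (ι_toBase I (Idx.single I hs))).trans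
      ((Spec.map_comp _ _).symm.trans (congrArg (fun φ => Spec.map (CommRingCat.ofHom φ)) hψ)))⟩

theorem hom_affine_ext {B : Type u} [CommRing B] {φ : R →+* B} {s : R} (hs : s ∈ I) (hφ : Admits I {s} φ)
    {h h' : Spec (CommRingCat.of B) ⟶ blow I} (hh : h ≫ toBase I = Spec.map (CommRingCat.ofHom φ))
    (hh' : h' ≫ toBase I = Spec.map (CommRingCat.ofHom φ)) : h = h' := by
  have hr := range_le_of_admits hs hφ h hh
  have hr' := range_le_of_admits hs hφ h' hh'
  obtain ⟨ψ, hψ⟩ := exists_preimage_hom (IsOpenImmersion.lift (ι I (Idx.single I hs)) h hr)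
  obtain ⟨ψ', hψ'⟩ := exists_preimage_hom (IsOpenImmersion.lift (ι I (Idx.single I hs)) h' hr')
  suffices hψψ : ψ = ψ' by
    rw [← IsOpenImmersion.lift_fac (ι I (Idx.single I hs)) h hr,
      ← IsOpenImmersion.lift_fac (ι I (Idx.single I hs)) h' hr', ← hψ, ← hψ', hψψ]
  refine hom_ext hφ (specMap_inj ?_) (specMap_inj ?_)
  · refine (Spec.map_comp _ _).trans ((congrArg (· ≫ _) hψ).trans ?_)
    refine (congrArg (_ ≫ ·) (ι_toBase I (Idx.single I hs)).symm).trans ?_
    exact (IsOpenImmersion.lift_fac_assoc _ _ _ _).trans hh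
  · refine (Spec.map_comp _ _).trans ((congrArg (· ≫ _) hψ').trans ?_)
    refine (congrArg (_ ≫ ·) (ι_toBase I (Idx.single I hs)).symm).trans ?_
    exact (IsOpenImmersion.lift_fac_assoc _ _ _ _).trans hh'

variable (I)

theorem exists_chart {Z : Scheme.{u}} (g : Z ⟶ Spec (CommRingCat.of R))
    (hg : BlowUp.IsEffCartierIdeal ((topId I).comap g)) (z : Z) :
    ∃ (B : CommRingCat.{u}) (j : Spec B ⟶ Z) (φ : R →+* B) (s : R), IsOpenImmersion j ∧ z ∈ Set.range j.base ∧
      j ≫ g = Spec.map (CommRingCat.ofHom φ) ∧ s ∈ I ∧ Admits I {s} φ := by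
  obtain ⟨W, hzW, e, he0, he⟩ := hg z
  have hW : W.1 ≤ g ⁻¹ᵁ ⊤ := fun _ _ => trivial
  let φ₀ : R →+* Γ(Z, W.1) :=
    ((Scheme.ΓSpecIso (CommRingCat.of R)).inv ≫ g.appLE ⊤ W.1 hW).hom
  have hj : W.2.fromSpec ≫ g = Spec.map (CommRingCat.ofHom φ₀) := by
    rw [show CommRingCat.ofHom φ₀ = (Scheme.ΓSpecIso (CommRingCat.of R)).inv ≫ g.appLE ⊤ W.1 hW from rfl,
      Spec.map_comp, ← IsAffineOpen.SpecMap_appLE_fromSpec g (isAffineOpen_top _) W.2 hW]
    congr 1
    rw [IsAffineOpen.fromSpec_top, Scheme.isoSpec_Spec_inv]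
  rw [FpqcDescent.ideal_comap _ g ⟨⊤, isAffineOpen_top _⟩ W hW, ideal_topId, Ideal.map_map] at he
  have he' : I.map φ₀ = Ideal.span {e} := he
  obtain ⟨w, rfl⟩ : z ∈ Set.range W.2.fromSpec.base := W.2.range_fromSpec.symm ▸ hzW
  obtain ⟨x, hx, α, hα, hαw⟩ : ∃ x ∈ I, ∃ α, φ₀ x = e * α ∧ α ∉ w.asIdeal := by
    by_contra hne
    push Not at hne
    have hle : I.map φ₀ ≤ Ideal.span {e} * w.asIdeal := Ideal.map_le_iff_le_comap.2 fun x hx => by
      obtain ⟨α, hα⟩ := Ideal.mem_span_singleton.1 (he' ▸ Ideal.mem_map_of_mem φ₀ hx)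
      exact Ideal.mem_comap.2 (Ideal.mem_span_singleton_mul.2 ⟨α, hne x hx α hα, hα.symm⟩)
    obtain ⟨c, hc, hce⟩ := Ideal.mem_span_singleton_mul.1 (hle (he'.ge (Ideal.mem_span_singleton_self e)))
    have : c = 1 := sub_eq_zero.1 (he0.1 _ (by linear_combination hce))
    exact w.2.ne_top ((Ideal.eq_top_iff_one _).2 (this ▸ hc))
  haveI : IsOpenImmersion (Spec.map (CommRingCat.ofHom (algebraMap Γ(Z, W.1) (Localization.Away α)))) :=
    IsOpenImmersion.of_isLocalization α
  haveI := W.2.isOpenImmersion_fromSpec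
  refine ⟨CommRingCat.of (Localization.Away α),
    Spec.map (CommRingCat.ofHom (algebraMap Γ(Z, W.1) (Localization.Away α))) ≫ W.2.fromSpec,
    (algebraMap Γ(Z, W.1) (Localization.Away α)).comp φ₀, x, inferInstance, ?_, ?_, hx, ?_⟩
  · obtain ⟨v, hv⟩ := (Set.ext_iff.1 (PrimeSpectrum.localization_away_comap_range (Localization.Away α) α) w).2 hαw
    exact ⟨v, congrArg W.2.fromSpec.base hv⟩
  · rw [Category.assoc, hj]
    exact (Spec.map_comp (CommRingCat.ofHom φ₀) (CommRingCat.ofHom (algebraMap Γ(Z, W.1) (Localization.Away α)))).symm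
  · intro t ht
    obtain rfl := Finset.mem_singleton.1 ht
    have hu := IsLocalization.map_units (Localization.Away α) ⟨α, Submonoid.mem_powers α⟩
    refine ⟨?_, fun y hy => ?_⟩
    · simp only [RingHom.comp_apply, hα, map_mul]
      exact mul_mem (IsLocalization.map_nonZeroDivisors_le (Submonoid.powers α) (Localization.Away α) ⟨e, he0, rfl⟩)
        hu.mem_nonZeroDivisors
    · obtain ⟨β, hβ⟩ := Ideal.mem_span_singleton.1 (he' ▸ Ideal.mem_map_of_mem φ₀ hy)
      simp only [RingHom.comp_apply, hα, hβ, map_mul]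
      exact mul_dvd_mul_left _ hu.dvd

theorem hom_eq {Z : Scheme.{u}} {h h' : Z ⟶ blow I} (e : h ≫ toBase I = h' ≫ toBase I)
    (hg : BlowUp.IsEffCartierIdeal ((topId I).comap (h ≫ toBase I))) : h = h' := by
  choose B j φ s hj hz hjg hs hA using exists_chart I (h ≫ toBase I) hg
  let 𝒰 : Z.OpenCover :=
    { I₀ := Z
      X := fun z => Spec (B z)
      f := j
      mem₀ := by
        rw [Scheme.presieve₀_mem_precoverage_iff]
        exact ⟨fun z => ⟨z, hz z⟩, hj⟩ }
  refine Scheme.Cover.hom_ext 𝒰 _ _ fun (z : Z) => ?_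
  show j z ≫ h = j z ≫ h'
  refine hom_affine_ext (hs z) (hA z) ?_ ?_
  · rw [Category.assoc, hjg]
  · rw [Category.assoc, ← e, hjg]

theorem isBlowUp_toBase : BlowUp.IsBlowUp (toBase I) (topId I) := by
  refine ⟨isEffCartier_comap_toBase I, fun Z g hg => ?_⟩
  choose B j φ s hj hz hjg hs hA using exists_chart I g hg
  choose l hl using fun z => exists_hom_affine (hs z) (hA z)
  let 𝒰 : Z.OpenCover :=
    { I₀ := Z
      X := fun z => Spec (B z)
      f := j
      mem₀ := by
        rw [Scheme.presieve₀_mem_precoverage_iff]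
        exact ⟨fun z => ⟨z, hz z⟩, hj⟩ }
  have hcompat : ∀ x y : Z, pullback.fst (j x) (j y) ≫ l x = pullback.snd (j x) (j y) ≫ l y := fun x y => by
    haveI := hj x
    haveI := hj y
    refine hom_eq I ?_ ?_
    · rw [Category.assoc, Category.assoc, hl, hl]
      exact (congrArg (pullback.fst (j x) (j y) ≫ ·) (hjg x).symm).trans
        ((pullback.condition_assoc g).trans (congrArg (pullback.snd (j x) (j y) ≫ ·) (hjg y)))
    · rw [Category.assoc, hl]
      rw [show pullback.fst (j x) (j y) ≫ Spec.map (CommRingCat.ofHom (φ x)) =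
        (pullback.fst (j x) (j y) ≫ j x) ≫ g from
        (congrArg (pullback.fst (j x) (j y) ≫ ·) (hjg x).symm).trans (Category.assoc _ _ _).symm,
        Scheme.IdealSheafData.comap_comp]
      exact ModPairLib.isEffCartier_comap_flat hg _
  let L : Z ⟶ blow I := 𝒰.glueMorphisms l hcompat
  have hL : L ≫ toBase I = g := Scheme.Cover.hom_ext 𝒰 _ _ fun (z : Z) => by
    rw [Scheme.Cover.ι_glueMorphisms_assoc]
    exact (hl z).trans (hjg z).symm
  exact ⟨L, hL, fun y hy => hom_eq I (Eq.trans hy hL.symm) ((show y ≫ toBase I = g from hy).symm ▸ hg)⟩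

end Groth.Agent.BlowExist
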