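import Mathlib.RingTheory.Localization.Away.Basic
import Mathlib.RingTheory.Localization.Algebra
import Mathlib.RingTheory.Adjoin.Basic
import Mathlib.RingTheory.FiniteType
import Mathlib.RingTheory.Flat.Localization

/-!
Affine charts of the blowing up of `Spec R` in an ideal `I`, indexed by finite subsets `S ⊆ I`:
`R[x/s | x ∈ I, s ∈ S] ⊆ R_{∏ S}`, with the universal property.
-/

set_option autoImplicit false
set_option maxHeartbeats 800000
universe u

open scoped nonZeroDivisors

namespace Groth.Agent.BlowExist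

variable {R : Type u} [CommRing R] (I : Ideal R) (S T : Finset R)

/-- Every element of `S` generates the extension of `I` and is a nonzerodivisor. -/
def Admits {B : Type u} [CommRing B] (φ : R →+* B) : Prop :=
  ∀ s ∈ S, φ s ∈ B⁰ ∧ ∀ x ∈ I, φ s ∣ φ x

variable {I S T}

theorem Admits.mono {B : Type u} [CommRing B] {φ : R →+* B} (h : Admits I T φ) (hST : S ⊆ T) : Admits I S φ :=
  fun s hs => h s (hST hs)

theorem Admits.prod_mem {B : Type u} [CommRing B] {φ : R →+* B} (h : Admits I S φ) : φ (∏ s ∈ S, s) ∈ B⁰ := by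
  rw [map_prod]
  exact Submonoid.prod_mem _ fun s hs => (h s hs).1

variable (I S T)

/-- The chart algebra. -/
noncomputable def chart : Subalgebra R (Localization.Away (∏ s ∈ S, s)) :=
  Algebra.adjoin R {z | ∃ s ∈ S, ∃ x ∈ I,
    algebraMap R (Localization.Away (∏ s ∈ S, s)) s * z = algebraMap R _ x}

theorem isUnit_of_mem {s : R} (hs : s ∈ S) : IsUnit (algebraMap R (Localization.Away (∏ s ∈ S, s)) s) :=
  isUnit_of_dvd_unit (map_dvd _ (Finset.dvd_prod_of_mem _ hs))
    (IsLocalization.map_units (Localization.Away (∏ s ∈ S, s)) ⟨∏ s ∈ S, s, Submonoid.mem_powers _⟩)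

theorem admits_chart : Admits I S (algebraMap R (chart I S)) := by
  intro s hs
  refine ⟨mem_nonZeroDivisors_of_injective (f := (chart I S).val.toRingHom) Subtype.val_injective
    (isUnit_of_mem S hs).mem_nonZeroDivisors, fun x hx => ?_⟩
  obtain ⟨v, hv⟩ := (isUnit_of_mem S hs).exists_right_inv
  have hz : algebraMap R (Localization.Away (∏ s ∈ S, s)) s * (v * algebraMap R _ x) = algebraMap R _ x := by
    rw [← mul_assoc, hv, one_mul]
  exact ⟨⟨_, Algebra.subset_adjoin ⟨s, hs, x, hx, hz⟩⟩, Subtype.ext hz.symm⟩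

/-- The element `x/s`. -/
noncomputable def q {s x : R} (hs : s ∈ S) (hx : x ∈ I) : chart I S := ((admits_chart I S s hs).2 x hx).choose

theorem mul_q {s x : R} (hs : s ∈ S) (hx : x ∈ I) :
    algebraMap R (chart I S) s * q I S hs hx = algebraMap R (chart I S) x :=
  ((admits_chart I S s hs).2 x hx).choose_spec.symm

theorem q_self {s : R} (hs : s ∈ S) (hsI : s ∈ I) : q I S hs hsI = 1 :=
  (isRegular_iff_mem_nonZeroDivisors.2 (admits_chart I S s hs).1).left
    ((mul_q I S hs hsI).trans (mul_one _).symm)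

variable {I S T}

theorem exists_hom {B : Type u} [CommRing B] {φ : R →+* B} (h : Admits I S φ) :
    ∃ ψ : chart I S →+* B, ψ.comp (algebraMap R (chart I S)) = φ := by
  let π := ∏ s ∈ S, s
  letI : Algebra R B := φ.toAlgebra
  have hinj : Function.Injective (algebraMap B (Localization.Away (φ π))) :=
    IsLocalization.injective _ (Submonoid.powers_le.2 h.prod_mem)
  have hu : IsUnit (algebraMap R (Localization.Away (φ π)) π) := by
    rw [IsScalarTower.algebraMap_apply R B]
    exact IsLocalization.map_units (Localization.Away (φ π)) ⟨φ π, Submonoid.mem_powers _⟩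
  let L : Localization.Away π →ₐ[R] Localization.Away (φ π) :=
    { toRingHom := IsLocalization.Away.lift π hu, commutes' := fun r => IsLocalization.Away.lift_eq π hu r }
  have hle : (chart I S).map L ≤ (IsScalarTower.toAlgHom R B (Localization.Away (φ π))).range := by
    rw [chart, AlgHom.map_adjoin]
    refine Algebra.adjoin_le ?_
    rintro _ ⟨z, ⟨s, hs, x, hx, hz⟩, rfl⟩
    obtain ⟨t, ht⟩ := (h s hs).2 x hx
    refine ⟨t, ?_⟩
    have hsu : IsUnit (algebraMap R (Localization.Away (φ π)) s) :=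
      isUnit_of_dvd_unit (map_dvd _ (Finset.dvd_prod_of_mem _ hs)) hu
    apply hsu.mul_left_cancel
    have h2 : algebraMap R (Localization.Away (φ π)) s * L z = algebraMap R (Localization.Away (φ π)) x := by
      rw [← L.commutes s, ← L.commutes x, ← map_mul]
      exact congrArg L hz
    rw [h2, IsScalarTower.algebraMap_apply R B (Localization.Away (φ π)),
      IsScalarTower.algebraMap_apply R B (Localization.Away (φ π)) x]
    exact (map_mul _ _ _).symm.trans (congrArg _ ht.symm)
  let e := AlgEquiv.ofInjective (IsScalarTower.toAlgHom R B (Localization.Away (φ π))) hinj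
  let ψ : chart I S →ₐ[R] B :=
    e.symm.toAlgHom.comp ((L.comp (chart I S).val).codRestrict _ fun x => hle ⟨x.1, x.2, rfl⟩)
  exact ⟨ψ.toRingHom, ψ.comp_algebraMap⟩

theorem hom_ext {B : Type u} [CommRing B] {φ : R →+* B} (h : Admits I S φ) {ψ₁ ψ₂ : chart I S →+* B}
    (h₁ : ψ₁.comp (algebraMap R (chart I S)) = φ) (h₂ : ψ₂.comp (algebraMap R (chart I S)) = φ) : ψ₁ = ψ₂ := by
  letI : Algebra R B := φ.toAlgebra
  let f₁ : chart I S →ₐ[R] B := { toRingHom := ψ₁, commutes' := fun r => RingHom.congr_fun h₁ r }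
  let f₂ : chart I S →ₐ[R] B := { toRingHom := ψ₂, commutes' := fun r => RingHom.congr_fun h₂ r }
  have : f₁ = f₂ := AlgHom.ext_of_eq_adjoin rfl fun z hz => by
    obtain ⟨s, hs, x, hx, hz'⟩ := hz
    refine (isRegular_iff_mem_nonZeroDivisors.2 (h s hs).1).left ?_
    show φ s * f₁ _ = φ s * f₂ _
    have e : algebraMap R (chart I S) s * ⟨z, Algebra.subset_adjoin ⟨s, hs, x, hx, hz'⟩⟩ =
        algebraMap R (chart I S) x := Subtype.ext hz'
    have e₁ := congrArg f₁ e
    have e₂ := congrArg f₂ e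
    rw [map_mul, AlgHom.commutes, AlgHom.commutes] at e₁ e₂
    exact e₁.trans e₂.symm
  exact congrArg AlgHom.toRingHom this

/-- The image of the chart lies in a subring containing the image of `R` and the fractions. -/
theorem map_mem {B : Type u} [CommRing B] (ψ : chart I S →+* B) (V : Subring B)
    (hR : ∀ r, ψ (algebraMap R (chart I S) r) ∈ V)
    (hq : ∀ {s x : R} (hs : s ∈ S) (hx : x ∈ I), ψ (q I S hs hx) ∈ V) (z : chart I S) : ψ z ∈ V := by
  obtain ⟨z, hz⟩ := z
  refine Algebra.adjoin_induction (p := fun z hz => ψ ⟨z, hz⟩ ∈ V) ?_ hR ?_ ?_ hz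
  · rintro z ⟨s, hs, x, hx, hz'⟩
    have e : q I S hs hx = ⟨z, Algebra.subset_adjoin ⟨s, hs, x, hx, hz'⟩⟩ :=
      (isRegular_iff_mem_nonZeroDivisors.2 (admits_chart I S s hs).1).left
        ((mul_q I S hs hx).trans (Subtype.ext hz'.symm))
    exact e ▸ hq hs hx
  · intro x y hx hy h₁ h₂
    exact (map_add ψ ⟨x, hx⟩ ⟨y, hy⟩) ▸ add_mem h₁ h₂
  · intro x y hx hy h₁ h₂
    exact (map_mul ψ ⟨x, hx⟩ ⟨y, hy⟩) ▸ mul_mem h₁ h₂

theorem finiteType_chart (hI : I.FG) : Algebra.FiniteType R (chart I S) := by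
  classical
  obtain ⟨G, hG⟩ := hI
  have hGI : ∀ x ∈ G, x ∈ I := fun x hx => hG ▸ Ideal.subset_span hx
  let A := Algebra.adjoin R (Set.range fun p : S × G => q I S p.1.2 (hGI p.2.1 p.2.2))
  have htop : A = ⊤ := by
    refine top_unique fun z _ => (show RingHom.id (chart I S) z ∈ A.toSubring from
      map_mem (S := S) (RingHom.id (chart I S)) A.toSubring (fun r => A.algebraMap_mem r) ?_ z)
    intro s x hs hx
    show q I S hs hx ∈ A
    have key : ∀ x ∈ Ideal.span (G : Set R), ∃ z ∈ A, algebraMap R (chart I S) s * z = algebraMap R _ x := by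
      intro x hx
      refine Submodule.span_induction (fun g hg => ⟨_, Algebra.subset_adjoin ⟨(⟨s, hs⟩, ⟨g, hg⟩), rfl⟩, mul_q I S hs (hGI g hg)⟩)
        ⟨0, zero_mem _, by simp⟩ ?_ ?_ hx
      · rintro u v - - ⟨a, ha, ha'⟩ ⟨b, hb, hb'⟩
        exact ⟨a + b, add_mem ha hb, by rw [mul_add, ha', hb', map_add]⟩
      · rintro r u - ⟨a, ha, ha'⟩
        exact ⟨algebraMap R _ r * a, mul_mem (A.algebraMap_mem r) ha, by rw [mul_left_comm, ha', smul_eq_mul, map_mul]⟩
    obtain ⟨z, hzA, hz⟩ := key x (hG.symm ▸ hx)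
    rwa [(isRegular_iff_mem_nonZeroDivisors.2 (admits_chart I S s hs).1).left ((mul_q I S hs hx).trans hz.symm)]
  exact ⟨Subalgebra.fg_def.2 ⟨_, Set.finite_range _, htop⟩⟩

section transition

variable (I)
variable (hST : S ⊆ T)

/-- The transition map between charts. -/
noncomputable def trans : chart I S →+* chart I T := (exists_hom ((admits_chart I T).mono hST)).choose

theorem trans_comp : (trans I hST).comp (algebraMap R (chart I S)) = algebraMap R (chart I T) :=
  (exists_hom ((admits_chart I T).mono hST)).choose_spec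

theorem trans_apply (r : R) : trans I hST (algebraMap R (chart I S) r) = algebraMap R (chart I T) r :=
  RingHom.congr_fun (trans_comp I hST) r

theorem trans_q {s x : R} (hs : s ∈ S) (hx : x ∈ I) : trans I hST (q I S hs hx) = q I T (hST hs) hx := by
  refine (isRegular_iff_mem_nonZeroDivisors.2 (admits_chart I T s (hST hs)).1).left ?_
  show algebraMap R (chart I T) s * _ = algebraMap R (chart I T) s * _
  rw [mul_q]
  nth_rw 1 [← trans_apply I hST s]
  rw [← map_mul, mul_q, trans_apply]

theorem trans_id : trans I (Finset.Subset.refl S) = RingHom.id _ :=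
  hom_ext (admits_chart I S) (trans_comp I _) rfl

theorem trans_trans {U : Finset R} (hTU : T ⊆ U) :
    (trans I hTU).comp (trans I hST) = trans I (hST.trans hTU) :=
  hom_ext ((admits_chart I U).mono (hST.trans hTU))
    (by rw [RingHom.comp_assoc, trans_comp, trans_comp]) (trans_comp I _)

theorem q_mul_q {s t : R} (hs : s ∈ T) (ht : t ∈ T) (hsI : s ∈ I) (htI : t ∈ I) :
    q I T hs htI * q I T ht hsI = 1 := by
  refine (isRegular_iff_mem_nonZeroDivisors.2 (admits_chart I T s hs).1).left ?_
  show algebraMap R (chart I T) s * _ = algebraMap R (chart I T) s * _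
  rw [← mul_assoc, mul_q, mul_q, mul_one]

variable (hT : (T : Set R) ⊆ I) {s₀ : R} (hs₀ : s₀ ∈ S)

/-- The element of the chart whose invertibility defines the smaller chart. -/
noncomputable def dvs : chart I S := ∏ t ∈ T.attach, q I S hs₀ (hT t.2)

theorem q_notMem_of_dvs {t : R} (ht : t ∈ T) (p : Ideal (chart I S)) (h : dvs I hT hs₀ ∉ p) :
    q I S hs₀ (hT ht) ∉ p :=
  fun hq => h (Ideal.mem_of_dvd _ (Finset.dvd_prod_of_mem _ (Finset.mem_attach T ⟨t, ht⟩)) hq)

theorem isUnit_trans_dvs : IsUnit (trans I hST (dvs I hT hs₀)) := by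
  rw [dvs, map_prod]
  refine IsUnit.prod_iff.2 fun t _ => ?_
  rw [trans_q]
  exact IsUnit.of_mul_eq_one _ (q_mul_q I (hST hs₀) t.2 (hT (hST hs₀)) (hT t.2))

theorem admits_away : Admits I T ((algebraMap (chart I S) (Localization.Away (dvs I hT hs₀))).comp
    (algebraMap R (chart I S))) := by
  intro t ht
  have hu : IsUnit (algebraMap (chart I S) (Localization.Away (dvs I hT hs₀)) (q I S hs₀ (hT ht))) :=
    isUnit_of_dvd_unit (map_dvd _ (Finset.dvd_prod_of_mem (fun t : {x // x ∈ T} => q I S hs₀ (hT t.2)) (Finset.mem_attach T ⟨t, ht⟩)))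
      (IsLocalization.map_units _ (⟨dvs I hT hs₀, Submonoid.mem_powers _⟩ : Submonoid.powers (dvs I hT hs₀)))
  simp only [RingHom.comp_apply]
  rw [← mul_q I S hs₀ (hT ht), map_mul]
  refine ⟨mul_mem (IsLocalization.map_nonZeroDivisors_le (Submonoid.powers (dvs I hT hs₀))
    (Localization.Away (dvs I hT hs₀)) ⟨_, (admits_chart I S s₀ hs₀).1, rfl⟩) hu.mem_nonZeroDivisors, fun x hx => ?_⟩
  rw [← mul_q I S hs₀ hx, map_mul]
  exact mul_dvd_mul_left _ hu.dvd

include hST in
theorem isLocalization_trans :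
    @IsLocalization _ _ (Submonoid.powers (dvs I hT hs₀)) (chart I T) _ (trans I hST).toAlgebra := by
  letI := (trans I hST).toAlgebra
  let O := Localization.Away (dvs I hT hs₀)
  have hA := admits_away I hT hs₀
  let σ : O →+* chart I T := IsLocalization.Away.lift (dvs I hT hs₀) (isUnit_trans_dvs I hST hT hs₀)
  obtain ⟨ρ, hρ⟩ := exists_hom hA
  have hσ : σ.comp (algebraMap (chart I S) O) = trans I hST := IsLocalization.Away.lift_comp _ _
  have hρS : ρ.comp (trans I hST) = algebraMap (chart I S) O :=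
    hom_ext (hA.mono hST) (by rw [RingHom.comp_assoc, trans_comp, hρ]) rfl
  have h₁ : σ.comp ρ = RingHom.id _ := hom_ext (admits_chart I T)
    (by rw [RingHom.comp_assoc, hρ, ← RingHom.comp_assoc, hσ, trans_comp]) rfl
  have h₂ : ρ.comp σ = RingHom.id _ := IsLocalization.ringHom_ext (Submonoid.powers (dvs I hT hs₀))
    (by rw [RingHom.comp_assoc, hσ, hρS, RingHom.id_comp])
  let e : O ≃ₐ[chart I S] chart I T :=
    AlgEquiv.ofRingEquiv (f := RingEquiv.ofRingHom σ ρ h₁ h₂) fun r => RingHom.congr_fun hσ r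
  exact IsLocalization.isLocalization_of_algEquiv _ e

end transition

end Groth.Agent.BlowExist
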