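import Groth.Agent.BlowExist.Mul
import Groth.Agent.ThickAffine.General
import Groth.Agent.ModPairLib.Coprod

/-!
Descending a twisted ideal sheaf of finite type along a blowing up.
-/

set_option autoImplicit false
set_option maxHeartbeats 1600000
universe u

open CategoryTheory Limits AlgebraicGeometry TopologicalSpace
open scoped nonZeroDivisors

namespace Groth.Agent.BlowExist

section topId

variable {B : Type u} [CommRing B]

theorem exists_topId (A : (Spec (CommRingCat.of B)).IdealSheafData) : ∃ a : Ideal B, A = topId a := by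
  refine ⟨(A.ideal ⟨⊤, isAffineOpen_top _⟩).map (Scheme.ΓSpecIso (CommRingCat.of B)).hom.hom,
    Scheme.IdealSheafData.ext_of_isAffine ?_⟩
  rw [ideal_topId, Ideal.map_map]
  have e : (Scheme.ΓSpecIso (CommRingCat.of B)).inv.hom.comp (Scheme.ΓSpecIso (CommRingCat.of B)).hom.hom =
      RingHom.id _ := congrArg CommRingCat.Hom.hom (Scheme.ΓSpecIso (CommRingCat.of B)).hom_inv_id
  rw [e, Ideal.map_id]

theorem topId_mono {a a' : Ideal B} (h : a ≤ a') : topId a ≤ topId a' :=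
  Scheme.IdealSheafData.le_of_isAffine (by rw [ideal_topId, ideal_topId]; exact Ideal.map_mono h)

theorem topId_mul (a a' : Ideal B) : topId (a * a') = topId a * topId a' :=
  Scheme.IdealSheafData.ext_of_isAffine (by
    rw [Scheme.IdealSheafData.ideal_mul, Pi.mul_apply, ideal_topId, ideal_topId, ideal_topId, Ideal.map_mul])

theorem topId_pow (a : Ideal B) (n : ℕ) : topId (a ^ n) = topId a ^ n :=
  Scheme.IdealSheafData.ext_of_isAffine (by
    rw [Scheme.IdealSheafData.ideal_pow, Pi.pow_apply, ideal_topId, ideal_topId, Ideal.map_pow])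

end topId

section algebra

set_option allowUnsafeReducibility true in
attribute [local reducible] Idx.single

variable {R : Type u} [CommRing R] {a : Ideal R}

theorem exists_repr {g : R} (hg : g ∈ a) (z : chart a {g}) :
    ∃ (m : ℕ) (c : R), c ∈ a ^ m ∧ algebraMap R (chart a {g}) c = algebraMap R (chart a {g}) g ^ m * z := by
  obtain ⟨z, hz⟩ := z
  refine Algebra.adjoin_induction (p := fun z hz => ∃ (m : ℕ) (c : R), c ∈ a ^ m ∧
    algebraMap R (chart a {g}) c = algebraMap R (chart a {g}) g ^ m * ⟨z, hz⟩) ?_ ?_ ?_ ?_ hz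
  · rintro w ⟨s, hs, x, hx, hw⟩
    obtain rfl := Finset.mem_singleton.1 hs
    refine ⟨1, x, by rwa [pow_one], ?_⟩
    rw [pow_one]
    exact Subtype.ext hw.symm
  · intro r
    exact ⟨0, r, by simp, by rw [pow_zero, one_mul]; rfl⟩
  · rintro x y hx hy ⟨m, c, hc, hce⟩ ⟨m', c', hc', hce'⟩
    refine ⟨m + m', g ^ m' * c + g ^ m * c', ?_, ?_⟩
    · refine add_mem ?_ ?_
      · rw [pow_add, mul_comm (g ^ m')]; exact Ideal.mul_mem_mul hc (Ideal.pow_mem_pow hg _)
      · rw [pow_add]; exact Ideal.mul_mem_mul (Ideal.pow_mem_pow hg _) hc'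
    · rw [map_add, map_mul, map_mul, map_pow, map_pow, hce, hce',
        show (⟨x + y, add_mem hx hy⟩ : chart a {g}) = ⟨x, hx⟩ + ⟨y, hy⟩ from rfl]
      ring
  · rintro x y hx hy ⟨m, c, hc, hce⟩ ⟨m', c', hc', hce'⟩
    refine ⟨m + m', c * c', by rw [pow_add]; exact Ideal.mul_mem_mul hc hc', ?_⟩
    rw [map_mul, hce, hce', show (⟨x * y, mul_mem hx hy⟩ : chart a {g}) = ⟨x, hx⟩ * ⟨y, hy⟩ from rfl]
    ring

open Classical in
theorem dvs_dvd {T : Finset R} {k g : R} (hT : T ⊆ {k, g}) (hTa : (T : Set R) ⊆ a) (hk : k ∈ ({k} : Finset R))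
    (hka : k ∈ a) (hga : g ∈ a) : dvs a hTa hk ∣ q a {k} hk hga := by
  classical
  by_cases hgT : g ∈ T
  · rw [dvs, Finset.prod_eq_single (⟨g, hgT⟩ : {x // x ∈ T})]
    · intro t _ htg
      have : t.1 = k := (Finset.mem_insert.1 (hT t.2)).resolve_right fun h =>
        htg (Subtype.ext (Finset.mem_singleton.1 h))
      obtain ⟨t, ht⟩ := t
      subst this
      exact q_self a {t} hk hka
    · exact fun h => absurd (Finset.mem_attach _ _) h
  · rw [dvs]
    refine (isUnit_of_dvd_one ?_).dvd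
    refine (Finset.prod_eq_one fun t _ => ?_).dvd
    have htk : t.1 = k := (Finset.mem_insert.1 (hT t.2)).resolve_right fun h =>
      hgT ((Finset.mem_singleton.1 h : t.1 = g) ▸ t.2)
    obtain ⟨t, ht⟩ := t
    subst htk
    exact q_self a {t} hk hka

theorem exists_pow_factor {g : R} (hg : g ∈ a) {m : ℕ} {c : R} (hc : c ∈ a ^ m) :
    ∃ z : chart a {g}, algebraMap R (chart a {g}) c = algebraMap R (chart a {g}) g ^ m * z := by
  have h : (a ^ m).map (algebraMap R (chart a {g})) = Ideal.span {algebraMap R (chart a {g}) g ^ m} := by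
    rw [Ideal.map_pow, map_eq_span a hg (admits_chart a {g} g (Finset.mem_singleton_self g)).2,
      Ideal.span_singleton_pow]
  exact Ideal.mem_span_singleton.1 (h ▸ Ideal.mem_map_of_mem _ hc)

/-- The key computation: elements of `R` that generate `J · aⁿ` on every chart. -/
theorem exists_descend (G : Finset R) (hG : ∀ g ∈ G, g ∈ a) (J : ∀ S : Idx a, Ideal (chart a S.carrier))
    (hJ : ∀ {S T : Idx a} (h : T ≤ S), (J S).map (trans a h) = J T)
    (hfg : ∀ S, (J S).FG) :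
    ∃ N : ℕ, ∀ n ≥ N, ∀ g, ∀ hg : g ∈ G, ∃ C : Finset R, (∀ c ∈ C, c ∈ a ^ n) ∧
      (∀ c ∈ C, ∀ k, ∀ hk : k ∈ G, algebraMap R (chart a {k}) c ∈
        J (Idx.single a (hG k hk)) * Ideal.span {algebraMap R (chart a {k}) k ^ n}) ∧
      J (Idx.single a (hG g hg)) * Ideal.span {algebraMap R (chart a {g}) g ^ n} ≤
        (Ideal.span (C : Set R)).map (algebraMap R (chart a {g})) := by
  classical
  choose H hH using fun g : G => hfg (Idx.single a (hG g.1 g.2))
  let P := Σ g : G, {h : chart a (Idx.single a (hG g.1 g.2)).carrier // h ∈ H g}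
  choose m c hc hce using fun p : P => exists_repr (hG p.1.1 p.1.2) p.2.1
  have hd : ∀ (p : P) (k : G), ∃ d : ℕ, ∀ z : chart a {k.1},
      algebraMap R (chart a {k.1}) (c p) = algebraMap R (chart a {k.1}) k.1 ^ m p * z →
        q a {k.1} (Finset.mem_singleton_self k.1) (hG p.1.1 p.1.2) ^ d * z ∈ J (Idx.single a (hG k.1 k.2)) := by
    rintro ⟨g, h, hh⟩ k
    obtain ⟨z₀, hz₀⟩ := exists_pow_factor (hG k.1 k.2) (hc ⟨g, h, hh⟩)
    let S := Idx.single a (hG k.1 k.2)
    let T := Idx.union a S (Idx.single a (hG g.1 g.2))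
    have hS : T ≤ S := Idx.union_le_left a S _
    have hT : T ≤ Idx.single a (hG g.1 g.2) := Idx.union_le_right a S _
    let d₀ := dvs a (S := {k.1}) T.subset (Finset.mem_singleton_self k.1)
    letI := (trans a hS).toAlgebra
    haveI : IsLocalization.Away d₀ (chart a T.carrier) := isLocalization_trans a hS T.subset _
    have hkT : k.1 ∈ T.carrier := hS (Finset.mem_singleton_self k.1)
    have hgT : g.1 ∈ T.carrier := hT (Finset.mem_singleton_self g.1)
    have e : trans a hS z₀ = trans a hT h * q a T.carrier hkT (hG g.1 g.2) ^ m ⟨g, h, hh⟩ := by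
      have h₁ := congrArg (trans a hS) hz₀
      have h₂ := congrArg (trans a hT) (hce ⟨g, h, hh⟩)
      rw [map_mul, map_pow] at h₁ h₂
      simp only [trans_apply] at h₁ h₂
      refine (isRegular_iff_mem_nonZeroDivisors.2 (pow_mem (admits_chart a T.carrier k.1 hkT).1 (m ⟨g, h, hh⟩))).left ?_
      show algebraMap R (chart a T.carrier) k.1 ^ _ * _ = algebraMap R (chart a T.carrier) k.1 ^ _ * _
      rw [mul_comm (trans a hT h), ← mul_assoc, ← mul_pow, mul_q, ← h₂]
      exact ((congrArg (fun t => t ^ _ * trans a hS z₀) (trans_apply a hS k.1)).symm.trans h₁.symm).trans (trans_apply a hS _)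
    have hz : algebraMap (chart a {k.1}) (chart a T.carrier) z₀ ∈
        Ideal.map (algebraMap (chart a {k.1}) (chart a T.carrier)) (J S) := by
      show trans a hS z₀ ∈ (J S).map (trans a hS)
      rw [hJ hS, ← hJ hT, e]
      exact Ideal.mul_mem_right _ _ (Ideal.mem_map_of_mem _ (hH g ▸ Ideal.subset_span hh))
    obtain ⟨⟨x, s⟩, hxs⟩ := (IsLocalization.mem_map_algebraMap_iff (Submonoid.powers d₀) _).1 hz
    obtain ⟨⟨t', l, rfl⟩, hl⟩ := (IsLocalization.eq_iff_exists (Submonoid.powers d₀) (chart a T.carrier)).1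
      ((map_mul _ z₀ s.1).trans hxs)
    obtain ⟨⟨s', l', rfl⟩, hs⟩ : ∃ s' : Submonoid.powers d₀, s' = s := ⟨s, rfl⟩
    refine ⟨l + l', fun z hz' => ?_⟩
    obtain rfl : z = z₀ := (isRegular_iff_mem_nonZeroDivisors.2
      (pow_mem (admits_chart a {k.1} k.1 (Finset.mem_singleton_self _)).1 (m ⟨g, h, hh⟩))).left (hz'.symm.trans hz₀)
    refine Ideal.mem_of_dvd _ (mul_dvd_mul_right (pow_dvd_pow_of_dvd
      (dvs_dvd (fun t ht => ?_) T.subset (Finset.mem_singleton_self k.1) (hG k.1 k.2) (hG g.1 g.2)) (l + l')) z) ?_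
    · have ht' : t ∈ ({k.1} : Finset R) ∪ {g.1} := ht
      simpa [Finset.mem_union, Finset.mem_singleton, Finset.mem_insert] using ht'
    · rw [pow_add, mul_assoc, show d₀ ^ l' * z = z * s.1 by rw [← hs]; exact mul_comm _ _]
      have hl' : d₀ ^ l * (z * s.1) = d₀ ^ l * x.1 := hl
      exact hl'.symm ▸ Ideal.mul_mem_left _ _ x.2
  choose d hd using hd
  haveI : Fintype P := inferInstance
  refine ⟨Finset.univ.sup fun p => m p + Finset.univ.sup (d p), fun n hn g hg => ?_⟩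
  have hmn : ∀ p, m p + Finset.univ.sup (d p) ≤ n := fun p =>
    le_trans (Finset.le_sup (f := fun p => m p + Finset.univ.sup (d p)) (Finset.mem_univ p)) hn
  refine ⟨(Finset.univ : Finset {h // h ∈ H ⟨g, hg⟩}).image fun h => c ⟨⟨g, hg⟩, h⟩ * g ^ (n - m ⟨⟨g, hg⟩, h⟩), ?_, ?_, ?_⟩
  · intro x hx
    obtain ⟨h, -, rfl⟩ := Finset.mem_image.1 hx
    have := hmn ⟨⟨g, hg⟩, h⟩
    rw [show n = m ⟨⟨g, hg⟩, h⟩ + (n - m ⟨⟨g, hg⟩, h⟩) by omega, pow_add, Nat.add_sub_cancel_left]
    exact Ideal.mul_mem_mul (hc _) (Ideal.pow_mem_pow (hG g hg) _)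
  · intro x hx k hk
    obtain ⟨h, -, rfl⟩ := Finset.mem_image.1 hx
    let p : P := ⟨⟨g, hg⟩, h⟩
    obtain ⟨z, hz⟩ := exists_pow_factor (hG k hk) (hc p)
    have hk' := Finset.le_sup (f := d p) (Finset.mem_univ (⟨k, hk⟩ : G))
    have hn' := hmn p
    obtain ⟨j, hj⟩ : ∃ j, n - m p = d p ⟨k, hk⟩ + j := ⟨n - m p - d p ⟨k, hk⟩, by omega⟩
    show algebraMap R (chart a {k}) (c p * g ^ (n - m p)) ∈ _
    have e : algebraMap R (chart a {k}) (c p * g ^ (n - m p)) =
        (q a {k} (Finset.mem_singleton_self k) (hG g hg) ^ j *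
          (q a {k} (Finset.mem_singleton_self k) (hG g hg) ^ d p ⟨k, hk⟩ * z)) * algebraMap R (chart a {k}) k ^ n := by
      rw [map_mul, map_pow, hz, ← mul_q a {k} (Finset.mem_singleton_self k) (hG g hg), mul_pow]
      conv_rhs => rw [show n = m p + (n - m p) by omega, pow_add]
      rw [hj, pow_add]
      ring
    rw [e]
    exact Ideal.mul_mem_mul (Ideal.mul_mem_left _ _ (hd p ⟨k, hk⟩ z hz)) (Ideal.mem_span_singleton_self _)
  · rw [← hH ⟨g, hg⟩, Ideal.span_mul_span', Ideal.span_le]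
    rintro _ ⟨h, hh, _, rfl, rfl⟩
    let p : P := ⟨⟨g, hg⟩, h, hh⟩
    have e : h * algebraMap R (chart a {g}) g ^ n = algebraMap R (chart a {g}) (c p * g ^ (n - m p)) := by
      rw [map_mul, map_pow, hce p]
      conv_lhs => rw [show n = m p + (n - m p) by have := hmn p; omega, pow_add]
      ring
    show h * algebraMap R (chart a {g}) g ^ n ∈ _
    rw [e]
    exact Ideal.mem_map_of_mem _ (Ideal.subset_span (Finset.mem_coe.2 (Finset.mem_image.2 ⟨⟨h, hh⟩, Finset.mem_univ _, rfl⟩)))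

end algebra

end Groth.Agent.BlowExist

namespace Groth.Agent.BlowExist

variable {X X' : Scheme.{u}} {I : X.IdealSheafData} {b : X' ⟶ X}

theorem exists_model (hb : BlowUp.IsBlowUp b I) (U : X.affineOpens) :
    ∃ j : blow (I.ideal U) ⟶ X', IsOpenImmersion j ∧ j ≫ b = toBase (I.ideal U) ≫ U.2.fromSpec ∧
      Set.range j.base = b.base ⁻¹' (U.1 : Set X) := by
  haveI := U.2.isOpenImmersion_fromSpec
  have hC : BlowUp.IsEffCartierIdeal (I.comap (toBase (I.ideal U) ≫ U.2.fromSpec)) := by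
    rw [Scheme.IdealSheafData.comap_comp, comap_fromSpec]
    exact isEffCartier_comap_toBase _
  obtain ⟨φ, hφ, -⟩ := hb.2 _ _ hC
  have H : IsPullback φ (toBase (I.ideal U)) b U.2.fromSpec :=
    ModPairLib.isPullback_of_isBlowUp hb U.2.fromSpec (by rw [comap_fromSpec]; exact isBlowUp_toBase _) φ hφ
  haveI : IsOpenImmersion φ := MorphismProperty.of_isPullback (P := @IsOpenImmersion) H.flip U.2.isOpenImmersion_fromSpec
  refine ⟨φ, inferInstance, hφ, Set.ext fun y => ⟨?_, fun hy => ?_⟩⟩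
  · rintro ⟨z, rfl⟩
    show (φ ≫ b).base z ∈ (U.1 : Set X)
    rw [hφ, ← U.2.range_fromSpec]
    exact ⟨_, rfl⟩
  · obtain ⟨w, hw⟩ : b.base y ∈ Set.range U.2.fromSpec.base := U.2.range_fromSpec.symm ▸ hy
    obtain ⟨z, hz, -⟩ := Scheme.Pullback.exists_preimage_pullback y w hw.symm
    exact ⟨H.isoPullback.inv.base z, by rw [← Scheme.Hom.comp_apply, H.isoPullback_inv_fst]; exact hz⟩

theorem exists_single_mem {R : Type u} [CommRing R] {a : Ideal R} (G : Finset R) (hG : Ideal.span (G : Set R) = a)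
    (y : blow a) : ∃ g, ∃ hg : g ∈ G, y ∈ Set.range (ι a (Idx.single a (hG ▸ Ideal.subset_span hg))).base := by
  obtain ⟨S, x, rfl⟩ := jointly_surjective a y
  obtain ⟨s₀, hs₀⟩ := S.nonempty
  obtain ⟨g, hg, hgG, hq⟩ := exists_q_notMem a G hG hs₀ x.asIdeal x.2.ne_top
  exact ⟨g, hgG, mem_range_single a hg (mem_range_union_of_chart a hs₀ hg x hq)⟩

theorem ker_app_eq_zero {Z : Scheme.{u}} (L : Z.IdealSheafData) {b : Z ⟶ X} [QuasiCompact b] (U : X.affineOpens)
    (c : Γ(X, U.1)) (h : ∀ z, z ∈ b ⁻¹ᵁ U.1 → ∃ (V : Z.affineOpens) (hle : V.1 ≤ b ⁻¹ᵁ U.1), z ∈ V.1 ∧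
      (b.appLE U.1 V.1 hle) c ∈ L.ideal V) : c ∈ (L.map b).ideal U := by
  show c ∈ (L.subschemeι ≫ b).ker.ideal U
  rw [Scheme.Hom.ker_apply, RingHom.mem_ker]
  apply L.subscheme.IsSheaf.section_ext
  intro w hw
  obtain ⟨V, hle, hzV, hV⟩ := h (L.subschemeι w) hw
  have hle' : L.subschemeι ⁻¹ᵁ V.1 ≤ (L.subschemeι ≫ b) ⁻¹ᵁ U.1 := L.subschemeι.preimage_mono hle
  refine ⟨L.subschemeι ⁻¹ᵁ V.1, hle', hzV, ?_⟩
  rw [map_zero]
  have hk : L.subschemeι.app V.1 (b.appLE U.1 V.1 hle c) = 0 := by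
    rw [← L.ker_subschemeι, Scheme.Hom.ker_apply, RingHom.mem_ker] at hV
    exact hV
  refine Eq.trans ?_ hk
  rw [← CommRingCat.comp_apply, ← CommRingCat.comp_apply]
  congr 1
  simp only [Scheme.Hom.app_eq_appLE, homOfLE_leOfHom, Scheme.Hom.appLE_map, Scheme.Hom.appLE_comp_appLE]

theorem chart_mem {Z : Scheme.{u}} (L : Z.IdealSheafData) {b : Z ⟶ X} {U : X.affineOpens} {B : Type u} [CommRing B]
    (j : Spec (CommRingCat.of B) ⟶ Z) [IsOpenImmersion j] (φ : Γ(X, U.1) →+* B)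
    (hj : j ≫ b = Spec.map (CommRingCat.ofHom φ) ≫ U.2.fromSpec) {a : Ideal B} (ha : L.comap j = topId a)
    (hle : j.opensRange ≤ b ⁻¹ᵁ U.1) {c : Γ(X, U.1)} (hc : φ c ∈ a) :
    (b.appLE U.1 j.opensRange hle) c ∈ L.ideal ⟨j.opensRange, isAffineOpen_opensRange j⟩ := by
  have htop : (⊤ : (Spec (CommRingCat.of B)).Opens) ≤ j ⁻¹ᵁ j.opensRange := fun x _ => ⟨x, rfl⟩
  have hL := FpqcDescent.ideal_comap L j ⟨j.opensRange, isAffineOpen_opensRange j⟩ ⟨⊤, isAffineOpen_top _⟩ htop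
  rw [ha, ideal_topId] at hL
  have hbij : Function.Bijective (j.appLE j.opensRange ⊤ htop).hom := by
    rw [Scheme.Hom.appLE]
    haveI := Scheme.Hom.isIso_app j j.opensRange le_rfl
    haveI : IsIso ((Spec (CommRingCat.of B)).presheaf.map (homOfLE htop).op) := by
      have : homOfLE htop = eqToHom (j.preimage_opensRange).symm := rfl
      rw [this]; infer_instance
    exact ConcreteCategory.bijective_of_isIso _
  have hmem : (j.appLE j.opensRange ⊤ htop).hom ((b.appLE U.1 j.opensRange hle) c) ∈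
      (L.ideal ⟨j.opensRange, isAffineOpen_opensRange j⟩).map (j.appLE j.opensRange ⊤ htop).hom := by
    rw [← hL]
    have e : (j.appLE j.opensRange ⊤ htop).hom ((b.appLE U.1 j.opensRange hle) c) =
        (Scheme.ΓSpecIso (CommRingCat.of B)).inv.hom (φ c) := by
      have hU : (⊤ : (Spec Γ(X, U.1)).Opens) ≤ U.2.fromSpec ⁻¹ᵁ U.1 := by rw [U.2.fromSpec_preimage_self]
      rw [← CommRingCat.comp_apply, Scheme.Hom.appLE_comp_appLE]
      have e0 : (j ≫ b).appLE U.1 ⊤ (fun x _ => hle ⟨x, rfl⟩) =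
          CommRingCat.ofHom φ ≫ (Scheme.ΓSpecIso (CommRingCat.of B)).inv := by
        have e3 : U.2.fromSpec.appLE U.1 ⊤ hU = (Scheme.ΓSpecIso _).inv := by
          rw [Scheme.Hom.appLE, U.2.fromSpec_app_self, Category.assoc, ← Functor.map_comp]
          exact (congrArg ((Scheme.ΓSpecIso _).inv ≫ ·) (CategoryTheory.Functor.map_id _ _)).trans (Category.comp_id _)
        rw [Scheme.ΓSpecIso_inv_naturality]
        erw [← e3]
        simp only [hj, Scheme.Hom.app_eq_appLE]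
        exact (Scheme.Hom.appLE_comp_appLE _ _ _ _ _ _ _).symm
      rw [e0]
      rfl
    rw [e]
    exact Ideal.mem_map_of_mem _ hc
  obtain ⟨y, hy, hye⟩ := (Ideal.mem_map_iff_of_surjective _ hbij.2).1 hmem
  exact hbij.1 hye ▸ hy

end Groth.Agent.BlowExist

namespace Groth.Agent.BlowExist

set_option allowUnsafeReducibility true in
attribute [local reducible] Idx.single

theorem fg_of_comap_openImmersion {Z : Scheme.{u}} {J : Z.IdealSheafData} (hJ : BlowUp.IsFiniteTypeIdeal J)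
    {B : Type u} [CommRing B] (j : Spec (CommRingCat.of B) ⟶ Z) [IsOpenImmersion j] {a : Ideal B}
    (h : J.comap j = topId a) : a.FG := by
  have hL := FpqcDescent.ideal_comap J j ⟨j.opensRange, isAffineOpen_opensRange j⟩ ⟨⊤, isAffineOpen_top _⟩
    (fun x _ => ⟨x, rfl⟩)
  rw [h, ideal_topId] at hL
  have hfg : (a.map (Scheme.ΓSpecIso (CommRingCat.of B)).inv.hom).FG := hL ▸ (hJ _).map _
  have e : (Scheme.ΓSpecIso (CommRingCat.of B)).hom.hom.comp (Scheme.ΓSpecIso (CommRingCat.of B)).inv.hom =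
      RingHom.id B := congrArg CommRingCat.Hom.hom (Scheme.ΓSpecIso (CommRingCat.of B)).inv_hom_id
  have := hfg.map (Scheme.ΓSpecIso (CommRingCat.of B)).hom.hom
  rwa [Ideal.map_map, e, Ideal.map_id] at this

theorem exists_descend_global {X X' : Scheme.{u}} [CompactSpace X] [QuasiSeparatedSpace X] {I : X.IdealSheafData}
    (hI : BlowUp.IsFiniteTypeIdeal I) {b : X' ⟶ X} (hb : BlowUp.IsBlowUp b I) {J : X'.IdealSheafData}
    (hJ : BlowUp.IsFiniteTypeIdeal J) :
    ∃ (n : ℕ) (K₀ : X.IdealSheafData), BlowUp.IsFiniteTypeIdeal K₀ ∧ K₀ ≤ I ^ (n + 1) ∧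
      K₀.comap b = J * I.comap b ^ (n + 1) := by
  classical
  have := isProper_of_isBlowUp hI hb
  have haff : ∀ x : X, ∃ V : X.affineOpens, x ∈ V.1 := fun x => by
    obtain ⟨V, hV, hx, -⟩ := exists_isAffineOpen_mem_and_subset (U := (⊤ : X.Opens)) (x := x) trivial
    exact ⟨⟨V, hV⟩, hx⟩
  choose Vx hVx using haff
  obtain ⟨t, ht⟩ := isCompact_univ.elim_finite_subcover (fun x : X => ((Vx x).1 : Set X)) (fun x => (Vx x).1.isOpen)
    (fun x _ => Set.mem_iUnion.2 ⟨x, hVx x⟩)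
  let U : t → X.affineOpens := fun i => Vx i.1
  have hU : ∀ x : X, ∃ i, x ∈ (U i).1 := fun x => by
    obtain ⟨z, hz, hx⟩ := Set.mem_iUnion₂.1 (ht (Set.mem_univ x))
    exact ⟨⟨z, hz⟩, hx⟩
  choose G hG using fun i => hI (U i)
  have hGa : ∀ i, ∀ g ∈ G i, g ∈ I.ideal (U i) := fun i g hg => hG i ▸ Ideal.subset_span hg
  choose j hj hjb hjr using fun i => exists_model hb (U i)
  haveI := hj
  choose A hA using fun (i) (S : Idx (I.ideal (U i))) => exists_topId (J.comap (ι (I.ideal (U i)) S ≫ j i))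
  have hA' : ∀ i {S T : Idx (I.ideal (U i))} (h : T ≤ S), (A i S).map (trans (I.ideal (U i)) h) = A i T :=
    fun i S T h => ModPairLib.topId_inj (by
      rw [← comap_topId, ← hA, ← hA, ← Scheme.IdealSheafData.comap_comp, ← Category.assoc, ι_trans])
  have hAfg : ∀ i S, (A i S).FG := fun i S => fg_of_comap_openImmersion hJ _ (hA i S)
  choose N hN using fun i => exists_descend (G i) (hGa i) (A i) (hA' i) (hAfg i)
  let n := Finset.univ.sup N
  choose C hC1 hC2 hC3 using fun i g (hg : g ∈ G i) =>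
    hN i (n + 1) (Nat.le_succ_of_le (Finset.le_sup (Finset.mem_univ i))) g hg
  let ψ := fun i g (hg : g ∈ G i) => ι (I.ideal (U i)) (Idx.single _ (hGa i g hg)) ≫ j i
  have hψ : ∀ i g hg, ψ i g hg ≫ b = Spec.map (CommRingCat.ofHom
      (algebraMap Γ(X, (U i).1) (chart (I.ideal (U i)) (Idx.single _ (hGa i g hg)).carrier))) ≫ (U i).2.fromSpec :=
    fun i g hg => by simp only [ψ, Category.assoc, hjb, ι_toBase_assoc]
  have hcov : ∀ i y, y ∈ b ⁻¹ᵁ (U i).1 → ∃ g, ∃ hg : g ∈ G i, y ∈ Set.range (ψ i g hg).base := fun i y hy => by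
    obtain ⟨z, rfl⟩ : y ∈ Set.range (j i).base := (hjr i).symm ▸ hy
    obtain ⟨g, hg, w, hw⟩ := exists_single_mem (G i) (hG i) z
    exact ⟨g, hg, w, (Scheme.Hom.comp_apply _ _ _).trans (congrArg (j i).base hw)⟩
  let L := J * I.comap b ^ (n + 1)
  have hL : ∀ i g hg, L.comap (ψ i g hg) = topId (A i (Idx.single _ (hGa i g hg)) *
      Ideal.span {algebraMap Γ(X, (U i).1) (chart (I.ideal (U i)) (Idx.single _ (hGa i g hg)).carrier) g ^ (n + 1)}) := by
    intro i g hg
    rw [ModPairLib.comap_mul, comap_pow, hA, ← Scheme.IdealSheafData.comap_comp, hψ i g hg,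
      Scheme.IdealSheafData.comap_comp, comap_fromSpec, comap_topId,
      map_eq_span (φ := algebraMap Γ(X, (U i).1) (chart (I.ideal (U i)) (Idx.single _ (hGa i g hg)).carrier))
        _ (hGa i g hg) (admits_chart _ _ g (Finset.mem_singleton_self g)).2, topId_mul,
      ← Ideal.span_singleton_pow, topId_pow]
  let K := L.map b ⊓ I ^ (n + 1)
  let P := Σ i, Σ g : G i, {c // c ∈ C i g.1 g.2}
  haveI : Fintype P := inferInstance
  let e := Fintype.equivFin P
  have hmemK : ∀ p : P, p.2.2.1 ∈ K.ideal (U p.1) := by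
    rintro ⟨i, ⟨g, hg⟩, c, hc⟩
    rw [Scheme.IdealSheafData.ideal_inf, Pi.inf_apply, Scheme.IdealSheafData.ideal_pow, Pi.pow_apply]
    refine ⟨ker_app_eq_zero L (U i) c fun y hy => ?_, hC1 i g hg c hc⟩
    obtain ⟨k, hk, hy'⟩ := hcov i y hy
    have hle : (ψ i k hk).opensRange ≤ b ⁻¹ᵁ (U i).1 := by
      rintro _ ⟨w, rfl⟩
      show ((ψ i k hk) ≫ b).base w ∈ (U i).1
      rw [hψ i k hk]
      exact (U i).2.range_fromSpec.le ⟨_, rfl⟩
    exact ⟨⟨_, isAffineOpen_opensRange _⟩, hle, hy', chart_mem L (ψ i k hk) _ (hψ i k hk) (hL i k hk) hle (hC2 i g hg c hc k hk)⟩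
  obtain ⟨K₀, hK₀, hfg, hmem⟩ := ThickAffine.exists_fg_le_ker K.subschemeι (Fintype.card P)
    (fun k => U (e.symm k).1) (fun k => (e.symm k).2.2.1) fun k => by
      have h := hmemK (e.symm k)
      rw [← K.ker_subschemeι, Scheme.Hom.ker_apply, RingHom.mem_ker] at h
      exact h
  rw [Scheme.IdealSheafData.ker_subschemeι] at hK₀
  have hmem' : ∀ p : P, p.2.2.1 ∈ K₀.ideal (U p.1) := fun p => by
    obtain ⟨k, rfl⟩ := e.symm.surjective p
    exact hmem k
  refine ⟨n, K₀, hfg, hK₀.trans inf_le_right, le_antisymm ?_ (ModPairLib.le_of_openCover fun y => ?_)⟩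
  · exact (Scheme.IdealSheafData.comap_mono b (hK₀.trans inf_le_left)).trans (Scheme.IdealSheafData.comap_map_le _ _)
  · obtain ⟨i, hi⟩ := hU (b y)
    obtain ⟨g, hg, hy⟩ := hcov i y hi
    refine ⟨_, ψ i g hg, inferInstance, hy, ?_⟩
    rw [show J * I.comap b ^ (n + 1) = L from rfl, hL i g hg, ← Scheme.IdealSheafData.comap_comp, hψ i g hg,
      Scheme.IdealSheafData.comap_comp, comap_fromSpec, comap_topId]
    refine topId_mono ((hC3 i g hg).trans (Ideal.map_mono (Ideal.span_le.2 fun c hc => ?_)))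
    exact hmem' ⟨i, ⟨g, hg⟩, c, hc⟩

end Groth.Agent.BlowExist
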