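import Groth.Agent.BlowExist.Proper

/-!
Existence of blowing ups of arbitrary schemes in arbitrary ideal sheaves; properness for centres of finite type;
flat base change.

* `exists_isBlowUp`, `exists_isBlowUp_isSeparated`, `exists_isBlowUp_isProper`
* `isSeparated_of_isBlowUp`, `isProper_of_isBlowUp`
* `isBlowUp_fst` (flat base change); affine model: `isBlowUp_toBase`, `ι`, `ι_toBase`, `range_inter`
-/

set_option autoImplicit false
universe u

open CategoryTheory Limits AlgebraicGeometry TopologicalSpace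

namespace Groth.Agent.BlowExist

variable {X : Scheme.{u}}

theorem comap_fromSpec (C : X.IdealSheafData) (U : X.affineOpens) :
    C.comap U.2.fromSpec = topId (C.ideal U) := by
  refine Scheme.IdealSheafData.ext_of_isAffine ?_
  rw [ideal_topId, FpqcDescent.ideal_comap C U.2.fromSpec U ⟨⊤, isAffineOpen_top _⟩
    (by rw [U.2.fromSpec_preimage_self])]
  congr 1
  refine congrArg CommRingCat.Hom.hom ?_
  rw [Scheme.Hom.appLE, U.2.fromSpec_app_self, Category.assoc, ← Functor.map_comp]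
  exact (congrArg ((Scheme.ΓSpecIso _).inv ≫ ·) (CategoryTheory.Functor.map_id _ _)).trans (Category.comp_id _)

theorem comap_ι (C : X.IdealSheafData) (U : X.affineOpens) :
    C.comap U.1.ι = (topId (C.ideal U)).comap U.2.isoSpec.hom := by
  rw [← comap_fromSpec, ← Scheme.IdealSheafData.comap_comp, U.2.isoSpec_hom_fromSpec]

/-- A blowing up of an affine open. -/
theorem exists_isBlowUp_affineOpen (C : X.IdealSheafData) (U : X.affineOpens) (P : MorphismProperty Scheme.{u})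
    [P.IsStableUnderBaseChange] (hP : P (toBase (C.ideal U))) :
    ∃ (Y : Scheme.{u}) (b : Y ⟶ (U.1 : Scheme.{u})), BlowUp.IsBlowUp b (C.comap U.1.ι) ∧ P b :=
  ⟨_, pullback.snd (toBase (C.ideal U)) U.2.isoSpec.hom,
    (comap_ι C U).symm ▸ ModPairLib.isBlowUp_baseChange (isBlowUp_toBase (C.ideal U)) U.2.isoSpec.hom,
    P.pullback_snd _ _ hP⟩

theorem exists_isBlowUp_prop (C : X.IdealSheafData) (P : MorphismProperty Scheme.{u})
    [IsZariskiLocalAtTarget P] [P.IsStableUnderBaseChange] (hP : ∀ U : X.affineOpens, P (toBase (C.ideal U))) :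
    ∃ (Y : Scheme.{u}) (b : Y ⟶ X), BlowUp.IsBlowUp b C ∧ P b :=
  ModPairLib.exists_blowUp_of_local C P fun x => by
    obtain ⟨U, hU, hx, -⟩ := exists_isAffineOpen_mem_and_subset (U := (⊤ : X.Opens)) (x := x) trivial
    obtain ⟨Y, b, hb, hPb⟩ := exists_isBlowUp_affineOpen C ⟨U, hU⟩ P (hP _)
    exact ⟨U, Y, b, hx, hb, hPb⟩

theorem exists_isBlowUp_isSeparated (C : X.IdealSheafData) :
    ∃ (Y : Scheme.{u}) (b : Y ⟶ X), BlowUp.IsBlowUp b C ∧ IsSeparated b :=
  exists_isBlowUp_prop C @IsSeparated fun U => isSeparated_toBase (C.ideal U)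

theorem exists_isBlowUp (C : X.IdealSheafData) : ∃ (Y : Scheme.{u}) (b : Y ⟶ X), BlowUp.IsBlowUp b C :=
  let ⟨Y, b, hb, _⟩ := exists_isBlowUp_isSeparated C
  ⟨Y, b, hb⟩

theorem exists_isBlowUp_isProper (C : X.IdealSheafData) (hC : BlowUp.IsFiniteTypeIdeal C) :
    ∃ (Y : Scheme.{u}) (b : Y ⟶ X), BlowUp.IsBlowUp b C ∧ IsProper b :=
  exists_isBlowUp_prop C @IsProper fun U => isProper_toBase (C.ideal U) (hC U)

theorem isSeparated_of_isBlowUp {C : X.IdealSheafData} {Y : Scheme.{u}} {b : Y ⟶ X}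
    (hb : BlowUp.IsBlowUp b C) : IsSeparated b := by
  obtain ⟨Y', b', hb', _⟩ := exists_isBlowUp_isSeparated C
  obtain ⟨e, rfl⟩ := ModPairLib.exists_iso_of_isBlowUp hb hb'
  infer_instance

theorem isProper_of_isBlowUp {C : X.IdealSheafData} (hC : BlowUp.IsFiniteTypeIdeal C) {Y : Scheme.{u}} {b : Y ⟶ X}
    (hb : BlowUp.IsBlowUp b C) : IsProper b := by
  obtain ⟨Y', b', hb', _⟩ := exists_isBlowUp_isProper C hC
  obtain ⟨e, rfl⟩ := ModPairLib.exists_iso_of_isBlowUp hb hb'
  infer_instance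

theorem isBlowUp_of_iso {C : X.IdealSheafData} {Y Y' : Scheme.{u}} {b : Y ⟶ X} (hb : BlowUp.IsBlowUp b C)
    (e : Y' ≅ Y) : BlowUp.IsBlowUp (e.hom ≫ b) C := by
  refine ⟨?_, fun Z g hg => ?_⟩
  · rw [Scheme.IdealSheafData.comap_comp]
    exact ModPairLib.isEffCartier_comap_flat hb.1 _
  · obtain ⟨h, hh, hu⟩ := hb.2 Z g hg
    exact ⟨h ≫ e.inv, by simpa using hh, fun y hy =>
      (e.comp_inv_eq (f := h)).mpr (hu _ (show _ = _ from (Category.assoc _ _ _).trans hy)).symm |>.symm⟩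

theorem isBlowUp_fst {C : X.IdealSheafData} {Y U : Scheme.{u}} {b : Y ⟶ X} (hb : BlowUp.IsBlowUp b C)
    (j : U ⟶ X) [Flat j] : BlowUp.IsBlowUp (pullback.fst j b) (C.comap j) := by
  rw [← pullbackSymmetry_hom_comp_snd]
  exact isBlowUp_of_iso (ModPairLib.isBlowUp_baseChange hb j) (pullbackSymmetry j b)

end Groth.Agent.BlowExist
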