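import Groth.Agent.BlowExist.Main
import Groth.Agent.ModPairLib.Image
import Groth.Agent.S1682

/-!
Factors of effective Cartier products, blowing up a product.
-/

set_option autoImplicit false
set_option maxHeartbeats 800000
universe u

open CategoryTheory Limits AlgebraicGeometry

namespace Groth.Agent.BlowExist

variable {X : Scheme.{u}}

theorem factor_algebra {R : Type u} [CommRing R] {A B : Ideal R} {e : R} (he : e ∈ nonZeroDivisors R)
    (h : A * B = Ideal.span {e}) :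
    ∃ s : Set R, Ideal.span s = ⊤ ∧ ∀ α ∈ s, ∃ a ∈ A, ∃ b ∈ B, a * b = α * e ∧ ∀ x ∈ A, ∃ γ, α * x = γ * a := by
  refine ⟨{α | ∃ a ∈ A, ∃ b ∈ B, a * b = α * e}, ?_, ?_⟩
  · have hle : A * B ≤ Ideal.span {α | ∃ a ∈ A, ∃ b ∈ B, a * b = α * e} * Ideal.span {e} := by
      refine Ideal.mul_le.2 fun a ha b hb => ?_
      obtain ⟨α, hα⟩ := Ideal.mem_span_singleton'.1 (h ▸ Ideal.mul_mem_mul ha hb)
      exact hα ▸ Ideal.mul_mem_mul (Ideal.subset_span ⟨a, ha, b, hb, hα.symm⟩) (Ideal.mem_span_singleton_self e)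
    obtain ⟨z, hz, hze⟩ := Ideal.mem_mul_span_singleton.1 (hle (h.ge (Ideal.mem_span_singleton_self e)))
    have : z = 1 := (isRegular_iff_mem_nonZeroDivisors.2 he).right (hze.trans (one_mul e).symm)
    exact (Ideal.eq_top_iff_one _).2 (this ▸ hz)
  · rintro α ⟨a, ha, b, hb, hab⟩
    refine ⟨a, ha, b, hb, hab, fun x hx => ?_⟩
    obtain ⟨γ, hγ⟩ := Ideal.mem_span_singleton'.1 (h ▸ Ideal.mul_mem_mul hx hb)
    refine ⟨γ, (isRegular_iff_mem_nonZeroDivisors.2 he).right ?_⟩
    show α * x * e = γ * a * e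
    calc α * x * e = x * (a * b) := by rw [hab]; ring
      _ = a * (x * b) := by ring
      _ = γ * a * e := by rw [← hγ]; ring

theorem isEffCartier_of_mul_left {A B : X.IdealSheafData} (h : BlowUp.IsEffCartierIdeal (A * B)) :
    BlowUp.IsEffCartierIdeal A := by
  intro x
  obtain ⟨U, hxU, e, he, hU⟩ := h x
  rw [Scheme.IdealSheafData.ideal_mul, Pi.mul_apply] at hU
  obtain ⟨s, hs, hα⟩ := factor_algebra he hU
  have hx : x ∈ (⨆ f : s, X.basicOpen f.1) := ((U.2.iSup_basicOpen_eq_self_iff).2 hs).ge hxU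
  obtain ⟨⟨α, hαs⟩, hxα⟩ := TopologicalSpace.Opens.mem_iSup.1 hx
  obtain ⟨a, ha, b, hb, hab, hA⟩ := hα α hαs
  haveI := U.2.isLocalization_basicOpen α
  let r := algebraMap Γ(X, U.1) Γ(X, X.basicOpen α)
  have hu : IsUnit (r α) := IsLocalization.map_units _ ⟨α, Submonoid.mem_powers α⟩
  have hnz : r a * r b ∈ nonZeroDivisors Γ(X, X.basicOpen α) := by
    rw [← map_mul, hab, map_mul]
    exact mul_mem hu.mem_nonZeroDivisors
      (IsLocalization.map_nonZeroDivisors_le (Submonoid.powers α) _ ⟨e, he, rfl⟩)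
  refine ⟨X.affineBasicOpen α, hxα, r a, (mul_mem_nonZeroDivisors.1 hnz).1, ?_⟩
  rw [← A.map_ideal_basicOpen U α]
  refine le_antisymm (Ideal.map_le_iff_le_comap.2 fun y hy => Ideal.mem_comap.2 ?_)
    ((Ideal.span_singleton_le_iff_mem _).2 (Ideal.mem_map_of_mem _ ha))
  obtain ⟨γ, hγ⟩ := hA y hy
  refine Ideal.mem_span_singleton.2 ((hu.dvd_mul_left).1 ⟨r γ, ?_⟩)
  show r α * r y = r a * r γ
  rw [← map_mul, hγ, map_mul, mul_comm]

theorem isEffCartier_mul {A B : X.IdealSheafData} (hA : BlowUp.IsEffCartierIdeal A)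
    (hB : BlowUp.IsEffCartierIdeal B) : BlowUp.IsEffCartierIdeal (A * B) := fun x => by
  obtain ⟨V, hV, a, b, e, ha, hb, -, -⟩ := ModPairLib.exists_chart₃ hA hB hA x
  exact ⟨V, hV, a * b, mul_mem (ModPairLib.nzd_of_span hA V ha) (ModPairLib.nzd_of_span hB V hb), by
    rw [Scheme.IdealSheafData.ideal_mul, Pi.mul_apply, ha, hb, Ideal.span_singleton_mul_span_singleton]⟩

theorem comap_pow {Y : Scheme.{u}} (A : X.IdealSheafData) (f : Y ⟶ X) (n : ℕ) :
    (A ^ n).comap f = A.comap f ^ n := by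
  induction n with
  | zero => rw [pow_zero, pow_zero]; exact Scheme.IdealSheafData.comap_top f
  | succ n ih => rw [pow_succ, pow_succ, ModPairLib.comap_mul, ih]

theorem isEffCartier_pow {A : X.IdealSheafData} (hA : BlowUp.IsEffCartierIdeal A) (n : ℕ) :
    BlowUp.IsEffCartierIdeal (A ^ n) := by
  induction n with
  | zero =>
    intro x
    obtain ⟨V, hV, -⟩ := hA x
    exact ⟨V, hV, 1, one_mem _, by rw [Ideal.span_singleton_one, pow_zero]; rfl⟩
  | succ n ih => rw [pow_succ]; exact isEffCartier_mul ih hA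

/-- An effective Cartier ideal pulls back to one on any blowing up. -/
theorem isEffCartier_comap_blowUp {X' : Scheme.{u}} {J E : X.IdealSheafData} {b : X' ⟶ X}
    (hb : BlowUp.IsBlowUp b J) (hE : BlowUp.IsEffCartierIdeal E) : BlowUp.IsEffCartierIdeal (E.comap b) := by
  haveI : IsIso (b ∣_ ModPair.interior J) := S1682.result J b hb
  let W := b ⁻¹ᵁ ModPair.interior J
  haveI hW : IsSchemeTheoreticallyDominant W.ι := by
    show IsSchemeTheoreticallyDominant (b ⁻¹ᵁ ModPair.interior J).ι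
    rw [← ModPairLib.interior_comap]
    exact ModPairLib.std_interior hb.1
  haveI haW : IsAffineHom W.ι := by
    show IsAffineHom (b ⁻¹ᵁ ModPair.interior J).ι
    rw [← ModPairLib.interior_comap]
    exact ModPairLib.isAffineHom_interior hb.1
  have h0 : W.ι ≫ b = (b ∣_ ModPair.interior J) ≫ (ModPair.interior J).ι := (morphismRestrict_ι _ _).symm
  haveI : Flat (W.ι ≫ b) := by rw [h0]; infer_instance
  have hEW : BlowUp.IsEffCartierIdeal (E.comap (W.ι ≫ b)) := ModPairLib.isEffCartier_comap_flat hE _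
  haveI := ModPairLib.std_interior hEW
  haveI := ModPairLib.isAffineHom_interior hEW
  let k := (ModPair.interior (E.comap (W.ι ≫ b))).ι ≫ W.ι
  haveI : IsSchemeTheoreticallyDominant k := inferInstanceAs (IsSchemeTheoreticallyDominant (_ ≫ W.ι))
  have hr : Set.range k.base ⊆ Set.range (b ⁻¹ᵁ ModPair.interior E).ι.base := by
    rintro _ ⟨z, rfl⟩
    rw [Scheme.Opens.range_ι]
    exact (ModPairLib.interior_comap E (W.ι ≫ b)).le z.2
  haveI : IsSchemeTheoreticallyDominant (b ⁻¹ᵁ ModPair.interior E).ι := by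
    refine ⟨le_bot_iff.1 ?_⟩
    have := (IsOpenImmersion.lift (b ⁻¹ᵁ ModPair.interior E).ι k hr).le_ker_comp (b ⁻¹ᵁ ModPair.interior E).ι
    rwa [IsOpenImmersion.lift_fac, k.ker_eq_bot] at this
  exact ModPairLib.isEffCartier_comap hE b

/-- Successive blowing ups are the blowing up of a product. -/
theorem isBlowUp_comp {X' X'' : Scheme.{u}} {I K₀ : X.IdealSheafData} {b : X' ⟶ X} (hb : BlowUp.IsBlowUp b I)
    {J : X'.IdealSheafData} (n : ℕ) (hK : K₀.comap b = J * (I.comap b) ^ n) {b' : X'' ⟶ X'}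
    (hb' : BlowUp.IsBlowUp b' J) : BlowUp.IsBlowUp (b' ≫ b) (I * K₀) := by
  have hE := isEffCartier_comap_blowUp hb' hb.1
  refine ⟨?_, fun Y g hg => ?_⟩
  · rw [Scheme.IdealSheafData.comap_comp, ModPairLib.comap_mul, hK, ModPairLib.comap_mul,
      ModPairLib.comap_mul, comap_pow]
    exact isEffCartier_mul hE (isEffCartier_mul hb'.1 (isEffCartier_pow hE n))
  · rw [ModPairLib.comap_mul] at hg
    obtain ⟨h, hh, hu⟩ := hb.2 Y g (isEffCartier_of_mul_left hg)
    have h' : BlowUp.IsEffCartierIdeal (J.comap h) := by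
      rw [mul_comm] at hg
      have h₂ := isEffCartier_of_mul_left hg
      rw [← hh, Scheme.IdealSheafData.comap_comp, hK, ModPairLib.comap_mul] at h₂
      exact isEffCartier_of_mul_left h₂
    obtain ⟨k, hk, hku⟩ := hb'.2 Y h h'
    refine ⟨k, show _ = _ by rw [reassoc_of% hk, hh], fun y hy => hku y (hu _ ?_)⟩
    show (y ≫ b') ≫ b = g
    rw [Category.assoc]
    exact hy

end Groth.Agent.BlowExist
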