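import Groth.Agent.BlowExist.Affine
import Mathlib.AlgebraicGeometry.ValuativeCriterion

/-!
Separatedness of the blowing up of an affine scheme, properness for a finitely generated centre.
-/

set_option autoImplicit false
set_option maxHeartbeats 800000
universe u

open CategoryTheory Limits AlgebraicGeometry TopologicalSpace
open scoped nonZeroDivisors

namespace Groth.Agent.BlowExist

variable {R : Type u} [CommRing R] (I : Ideal R)

theorem specMap_comp {A B C : Type u} [CommRing A] [CommRing B] [CommRing C] (f : A →+* B) (g : B →+* C) :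
    Spec.map (CommRingCat.ofHom g) ≫ Spec.map (CommRingCat.ofHom f) = Spec.map (CommRingCat.ofHom (g.comp f)) :=
  (Spec.map_comp (CommRingCat.ofHom f) (CommRingCat.ofHom g)).symm

@[reassoc]
theorem specMap_comp_ι {B C : Type u} [CommRing B] [CommRing C] {S : Idx I} (f : chart I S.carrier →+* B)
    (g : B →+* C) : Spec.map (CommRingCat.ofHom g) ≫ Spec.map (CommRingCat.ofHom f) ≫ ι I S =
      Spec.map (CommRingCat.ofHom (g.comp f)) ≫ ι I S :=
  (Category.assoc _ _ _).symm.trans (congrArg (· ≫ ι I S) (specMap_comp f g))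

theorem specMap_comp_trans {B : Type u} [CommRing B] {S U : Idx I} (h : U ≤ S) (χ : chart I U.carrier →+* B) :
    Spec.map (CommRingCat.ofHom (χ.comp (trans I h))) ≫ ι I S = Spec.map (CommRingCat.ofHom χ) ≫ ι I U := by
  rw [← specMap_comp_ι, ι_trans]

theorem mem_range_union_of_chart {S : Idx I} {s₀ g : R} (hs₀ : s₀ ∈ S.carrier) (hg : g ∈ I)
    (x : Spec (CommRingCat.of (chart I S.carrier))) (hx : q I S.carrier hs₀ hg ∉ x.asIdeal) :
    (ι I S).base x ∈ Set.range (ι I (Idx.union I S (Idx.single I hg))).base := by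
  classical
  let U := Idx.union I S (Idx.single I hg)
  have h : U ≤ S := Idx.union_le_left I S _
  obtain ⟨z, hz⟩ : x ∈ Set.range ((diagram I).map (homOfLE h)).base := by
    refine (mem_range_map I (homOfLE h) hs₀ x).2 fun hmem => ?_
    obtain ⟨⟨t, ht⟩, -, ht'⟩ := (PrimeSpectrum.isPrime _).prod_mem_iff.1 (show _ ∈ _ from hmem)
    have ht2 : t ∈ S.carrier ∪ {g} := ht
    rcases Finset.mem_union.1 ht2 with ht3 | ht3
    · exact x.2.ne_top (Ideal.eq_top_of_isUnit_mem _ ht'
        (IsUnit.of_mul_eq_one _ (q_mul_q I hs₀ ht3 (S.subset hs₀) (S.subset ht3))))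
    · obtain rfl := Finset.mem_singleton.1 ht3
      exact hx ht'
  refine ⟨z, ?_⟩
  rw [← hz]
  show _ = ((diagram I).map (homOfLE h) ≫ colimit.ι (diagram I) S).base z
  rw [colimit.w]
  rfl

theorem range_inter (S T : Idx I) :
    Set.range (ι I S).base ∩ Set.range (ι I T).base = Set.range (ι I (Idx.union I S T)).base := by
  classical
  refine le_antisymm ?_ ?_
  · rintro _ ⟨⟨x, rfl⟩, y, hy⟩
    obtain ⟨U, hS, hT, z, hz, -⟩ := exists_common I hy.symm
    have hU : U ≤ Idx.union I S T := Finset.union_subset hS hT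
    refine ⟨(Spec.map (CommRingCat.ofHom (trans I hU))).base z, ?_⟩
    rw [← hz, ← Scheme.Hom.comp_apply, ι_trans, ← Scheme.Hom.comp_apply, ι_trans]
  · rintro _ ⟨z, rfl⟩
    exact ⟨⟨_, congrArg (fun f => f.base z) (ι_trans I (Idx.union_le_left I S T))⟩,
      ⟨_, congrArg (fun f => f.base z) (ι_trans I (Idx.union_le_right I S T))⟩⟩

theorem mem_range_single {S : Idx I} {g : R} (hg : g ∈ I) {y : blow I}
    (hy : y ∈ Set.range (ι I (Idx.union I S (Idx.single I hg))).base) :
    y ∈ Set.range (ι I (Idx.single I hg)).base :=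
  ((range_inter I S (Idx.single I hg)).ge hy).2

instance : QuasiSeparatedSpace (blow I : Scheme.{u}) := by
  refine Scheme.quasiSeparatedSpace_of_isOpenCover (fun S : Idx I => (ι I S).opensRange)
    (Opens.ext (by
      rw [Opens.coe_iSup]
      exact Set.eq_univ_of_forall fun y => by
        obtain ⟨S, x, hx⟩ := jointly_surjective I y
        exact Set.mem_iUnion.2 ⟨S, x, hx⟩))
    (fun S => isAffineOpen_opensRange _) fun S T => ?_
  simp only [Scheme.Hom.coe_opensRange, range_inter]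
  exact isCompact_range (ι I _).continuous

theorem exists_lift_chart {B : Type u} [CommRing B] (S : Idx I) (k : Spec (CommRingCat.of B) ⟶ blow I)
    (hk : Set.range k.base ⊆ Set.range (ι I S).base) :
    ∃ ψ : chart I S.carrier →+* B, Spec.map (CommRingCat.ofHom ψ) ≫ ι I S = k := by
  obtain ⟨ψ, hψ⟩ := exists_preimage_hom (IsOpenImmersion.lift (ι I S) k hk)
  exact ⟨ψ, by rw [hψ, IsOpenImmersion.lift_fac]⟩

theorem comp_algebraMap_eq {B : Type u} [CommRing B] {S : Idx I} {ψ : chart I S.carrier →+* B} {φ : R →+* B}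
    (h : (Spec.map (CommRingCat.ofHom ψ) ≫ ι I S) ≫ toBase I = Spec.map (CommRingCat.ofHom φ)) :
    ψ.comp (algebraMap R (chart I S.carrier)) = φ := by
  apply specMap_inj
  rw [← specMap_comp, ← ι_toBase I S, ← Category.assoc, h]

theorem eq_comp_trans {B : Type u} [CommRing B] {S U : Idx I} (h : U ≤ S) {ψ : chart I S.carrier →+* B}
    {χ : chart I U.carrier →+* B}
    (e : Spec.map (CommRingCat.ofHom ψ) ≫ ι I S = Spec.map (CommRingCat.ofHom χ) ≫ ι I U) :
    ψ = χ.comp (trans I h) := by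
  apply specMap_inj
  rw [← cancel_mono (ι I S), e, specMap_comp_trans]

theorem exists_q_notMem (G : Finset R) (hG : Ideal.span (G : Set R) = I) {S : Idx I} {s₀ : R} (hs₀ : s₀ ∈ S.carrier)
    (p : Ideal (chart I S.carrier)) (hp : p ≠ ⊤) :
    ∃ g, ∃ hg : g ∈ I, g ∈ G ∧ q I S.carrier hs₀ hg ∉ p := by
  by_contra hne
  push Not at hne
  let a := algebraMap R (chart I S.carrier)
  have hle : (Ideal.span (G : Set R)).map a ≤ Ideal.span {a s₀} * p := by
    rw [Ideal.map_span, Ideal.span_le]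
    rintro _ ⟨g, hg, rfl⟩
    have hgI : g ∈ I := hG ▸ Ideal.subset_span hg
    exact Ideal.mem_span_singleton_mul.2 ⟨_, hne g hgI hg, mul_q I S.carrier hs₀ hgI⟩
  obtain ⟨c, hc, hce⟩ :=
    Ideal.mem_span_singleton_mul.1 (hle (Ideal.mem_map_of_mem a (hG.symm ▸ S.subset hs₀)))
  have : c = 1 := (isRegular_iff_mem_nonZeroDivisors.2 (admits_chart I S.carrier s₀ hs₀).1).left
    (hce.trans (mul_one _).symm)
  exact hp ((Ideal.eq_top_iff_one _).2 (this ▸ hc))

theorem compactSpace_blow (hI : I.FG) : CompactSpace (blow I : Scheme.{u}) := by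
  classical
  obtain ⟨G, hG⟩ := hI
  refine ⟨?_⟩
  have : (Set.univ : Set (blow I)) = ⋃ g : {g : G // g.1 ∈ I}, Set.range (ι I (Idx.single I g.2)).base := by
    refine (Set.eq_univ_of_forall fun y => ?_).symm
    obtain ⟨S, x, rfl⟩ := jointly_surjective I y
    obtain ⟨s₀, hs₀⟩ := S.nonempty
    obtain ⟨g, hg, hgG, hq⟩ := exists_q_notMem I G hG hs₀ x.asIdeal x.2.ne_top
    exact Set.mem_iUnion.2 ⟨⟨⟨g, hgG⟩, hg⟩, mem_range_single I hg (mem_range_union_of_chart I hs₀ hg x hq)⟩
  rw [this]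
  exact isCompact_iUnion fun g => isCompact_range (ι I _).continuous

theorem locallyOfFiniteType_toBase (hI : I.FG) : LocallyOfFiniteType (toBase I) := by
  let 𝒰 : (blow I).OpenCover :=
    { I₀ := Idx I
      X := fun S => Spec (CommRingCat.of (chart I S.carrier))
      f := fun S => ι I S
      mem₀ := by
        rw [Scheme.presieve₀_mem_precoverage_iff]
        exact ⟨jointly_surjective I, fun S => inferInstance⟩ }
  haveI : IsZariskiLocalAtSource @LocallyOfFiniteType.{u} :=
    HasRingHomProperty.instIsZariskiLocalAtSource (P := @LocallyOfFiniteType) (Q := RingHom.FiniteType)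
  refine IsZariskiLocalAtSource.of_openCover (P := @LocallyOfFiniteType.{u}) 𝒰 fun (S : Idx I) => ?_
  show LocallyOfFiniteType (ι I S ≫ toBase I)
  rw [ι_toBase, HasRingHomProperty.Spec_iff (P := @LocallyOfFiniteType)]
  haveI := finiteType_chart (I := I) (S := S.carrier) hI
  exact RingHom.finiteType_algebraMap.mpr inferInstance

theorem exists_factor {V K : Type u} [CommRing V] [CommRing K] {a : V →+* K} (ha : Function.Injective a)
    {S₁ S₂ : Idx I} {ψ₁ : chart I S₁.carrier →+* V} {ψ₂ : chart I S₂.carrier →+* V}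
    {χ : chart I (Idx.union I S₁ S₂).carrier →+* K}
    (c₁ : a.comp ψ₁ = χ.comp (trans I (Idx.union_le_left I S₁ S₂)))
    (c₂ : a.comp ψ₂ = χ.comp (trans I (Idx.union_le_right I S₁ S₂)))
    {S : Idx I} (h : Idx.union I S₁ S₂ ≤ S) {ψ : chart I S.carrier →+* V} (hc : a.comp ψ = χ.comp (trans I h)) :
    ∃ χ' : chart I (Idx.union I S₁ S₂).carrier →+* V, χ'.comp (trans I h) = ψ ∧ a.comp χ' = χ := by
  classical
  obtain ⟨s₀, hs₀⟩ := S.nonempty
  have hu : IsUnit (ψ (dvs I (Idx.union I S₁ S₂).subset hs₀)) := by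
    rw [dvs, map_prod]
    refine IsUnit.prod_iff.2 fun t _ => ?_
    have ht : t.1 ∈ S₁.carrier ∪ S₂.carrier := t.2
    have inv : ∀ {T : Idx I} {ψ' : chart I T.carrier →+* V} (hT : Idx.union I S₁ S₂ ≤ T) (_ : t.1 ∈ T.carrier),
        a.comp ψ' = χ.comp (trans I hT) →
        IsUnit (ψ (q I S.carrier hs₀ ((Idx.union I S₁ S₂).subset t.2))) := fun {T ψ'} hT htT hc' => by
      refine IsUnit.of_mul_eq_one (ψ' (q I T.carrier htT (S.subset hs₀))) (ha ?_)
      have p₁ := RingHom.congr_fun hc (q I S.carrier hs₀ ((Idx.union I S₁ S₂).subset t.2))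
      have p₂ := RingHom.congr_fun hc' (q I T.carrier htT (S.subset hs₀))
      simp only [RingHom.comp_apply, trans_q] at p₁ p₂
      rw [map_mul, map_one, p₁, p₂, ← map_mul, q_mul_q I (h hs₀) t.2 (S.subset hs₀) ((Idx.union I S₁ S₂).subset t.2), map_one]
    rcases Finset.mem_union.1 ht with ht' | ht'
    · exact inv (Idx.union_le_left I S₁ S₂) ht' c₁
    · exact inv (Idx.union_le_right I S₁ S₂) ht' c₂
  letI := (trans I h).toAlgebra
  haveI : IsLocalization.Away (dvs I (Idx.union I S₁ S₂).subset hs₀) (chart I (Idx.union I S₁ S₂).carrier) :=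
    isLocalization_trans I h (Idx.union I S₁ S₂).subset hs₀
  obtain ⟨χ', hχ'⟩ : ∃ χ' : chart I (Idx.union I S₁ S₂).carrier →+* V, χ'.comp (trans I h) = ψ :=
    ⟨IsLocalization.Away.lift (dvs I (Idx.union I S₁ S₂).subset hs₀) hu, IsLocalization.Away.lift_comp _ _⟩
  refine ⟨χ', hχ', IsLocalization.ringHom_ext (Submonoid.powers (dvs I (Idx.union I S₁ S₂).subset hs₀)) ?_⟩
  show (a.comp χ').comp (trans I h) = χ.comp (trans I h)
  rw [RingHom.comp_assoc, hχ', hc]

theorem valuative_uniqueness : ValuativeCriterion.Uniqueness (toBase I) := by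
  classical
  intro sq
  refine ⟨fun l₁ l₂ => CommSq.LiftStruct.ext ?_⟩
  obtain ⟨l₁, e₁, f₁⟩ := l₁
  obtain ⟨l₂, e₂, f₂⟩ := l₂
  show l₁ = l₂
  have key : ∀ l : Spec (CommRingCat.of sq.R) ⟶ blow I,
      ∃ (S : Idx I) (ψ : chart I S.carrier →+* sq.R), Spec.map (CommRingCat.ofHom ψ) ≫ ι I S = l := fun l => by
    obtain ⟨S, x, hx⟩ := jointly_surjective I (l.base (IsLocalRing.closedPoint sq.R))
    refine ⟨S, exists_lift_chart I S l ?_⟩
    rintro _ ⟨z, rfl⟩
    exact ((IsLocalRing.specializes_closedPoint z).map l.continuous).mem_open (ι I S).opensRange.isOpen ⟨x, hx⟩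
  obtain ⟨S₁, ψ₁, hψ₁⟩ := key l₁
  obtain ⟨S₂, ψ₂, hψ₂⟩ := key l₂
  let a := algebraMap sq.R sq.K
  have ha : Function.Injective a := IsFractionRing.injective sq.R sq.K
  have hr : ∀ {S : Idx I} {ψ : chart I S.carrier →+* sq.R} {l : Spec (CommRingCat.of sq.R) ⟶ blow I},
      Spec.map (CommRingCat.ofHom ψ) ≫ ι I S = l → Spec.map (CommRingCat.ofHom a) ≫ l = sq.i₁ →
      Spec.map (CommRingCat.ofHom (a.comp ψ)) ≫ ι I S = sq.i₁ := fun {S ψ l} h h' => by
    subst h
    rw [← h', specMap_comp_ι]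
  have h₁ := hr hψ₁ e₁
  have h₂ := hr hψ₂ e₂
  let U := Idx.union I S₁ S₂
  have hU : Set.range sq.i₁.base ⊆ Set.range (ι I U).base := by
    rw [← range_inter]
    rintro _ ⟨z, rfl⟩
    exact ⟨⟨_, congrArg (fun f => f.base z) h₁⟩, ⟨_, congrArg (fun f => f.base z) h₂⟩⟩
  obtain ⟨χ, hχ⟩ := exists_lift_chart I U sq.i₁ hU
  have c₁ := eq_comp_trans I (Idx.union_le_left I S₁ S₂) (h₁.trans hχ.symm)
  have c₂ := eq_comp_trans I (Idx.union_le_right I S₁ S₂) (h₂.trans hχ.symm)
  obtain ⟨χ₁, k₁, m₁⟩ := exists_factor I ha c₁ c₂ (Idx.union_le_left I S₁ S₂) c₁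
  obtain ⟨χ₂, k₂, m₂⟩ := exists_factor I ha c₁ c₂ (Idx.union_le_right I S₁ S₂) c₂
  have hχχ : χ₁ = χ₂ := RingHom.ext fun z => ha (RingHom.congr_fun (m₁.trans m₂.symm) z)
  rw [← hψ₁, ← hψ₂, ← k₁, ← k₂, specMap_comp_trans, specMap_comp_trans, hχχ]

instance : QuasiSeparated (toBase I) := (quasiSeparated_iff_quasiSeparatedSpace _).2 inferInstance

instance isSeparated_toBase : IsSeparated (toBase I) :=
  IsSeparated.of_valuativeCriterion _ (valuative_uniqueness I)

theorem valuative_existence (hI : I.FG) : ValuativeCriterion.Existence (toBase I) := by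
  classical
  obtain ⟨G, hG⟩ := hI
  intro sq
  obtain ⟨φ, hφ⟩ := exists_preimage_hom (C := R) sq.i₂
  let a := algebraMap sq.R sq.K
  have ha : Function.Injective a := IsFractionRing.injective sq.R sq.K
  have hbase : sq.i₁ ≫ toBase I = Spec.map (CommRingCat.ofHom (a.comp φ)) :=
    sq.commSq.w.trans ((congrArg (Spec.map (CommRingCat.ofHom a) ≫ ·) hφ.symm).trans (Spec.map_comp _ _).symm)
  obtain ⟨S, x, hx⟩ := jointly_surjective I (sq.i₁.base (IsLocalRing.closedPoint sq.K))
  have one : ∀ {T : Idx I}, sq.i₁.base (IsLocalRing.closedPoint sq.K) ∈ Set.range (ι I T).base →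
      Set.range sq.i₁.base ⊆ Set.range (ι I T).base := fun {T} h => by
    rintro _ ⟨z, rfl⟩
    rwa [Subsingleton.elim (α := PrimeSpectrum sq.K) z (IsLocalRing.closedPoint sq.K)]
  obtain ⟨ψ, hψ⟩ := exists_lift_chart I S sq.i₁ (one ⟨x, hx⟩)
  obtain ⟨s₀, hs₀⟩ := S.nonempty
  have hGI : ∀ {g}, g ∈ G → g ∈ I := fun hg => hG ▸ Ideal.subset_span hg
  obtain ⟨g₁, hg₁I, hg₁, hne⟩ := exists_q_notMem I G hG hs₀ (RingHom.ker ψ) (RingHom.ker_ne_top ψ)
  let v := ValuationRing.valuation sq.R sq.K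
  obtain ⟨⟨g, hgG⟩, -, hmax⟩ := Finset.exists_max_image G.attach
    (fun g => v (ψ (q I S.carrier hs₀ (hGI g.2)))) ⟨⟨g₁, hg₁⟩, Finset.mem_attach _ _⟩
  have hg : g ∈ I := hGI hgG
  have hgne : ψ (q I S.carrier hs₀ hg) ≠ 0 := fun h0 => by
    have := hmax ⟨g₁, hg₁⟩ (Finset.mem_attach _ _)
    simp only [h0, map_zero, le_zero_iff, map_eq_zero] at this
    exact hne this
  let U := Idx.union I S (Idx.single I hg)
  let x' : Spec (CommRingCat.of (chart I S.carrier)) :=
    (Spec.map (CommRingCat.ofHom ψ)).base (IsLocalRing.closedPoint sq.K)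
  have hyU : sq.i₁.base (IsLocalRing.closedPoint sq.K) ∈ Set.range (ι I U).base := by
    rw [← hψ]
    refine mem_range_union_of_chart I hs₀ hg x' fun hm => hgne ?_
    have hm' : ψ (q I S.carrier hs₀ hg) ∈ IsLocalRing.maximalIdeal sq.K := hm
    rwa [IsLocalRing.maximalIdeal_eq_bot, Ideal.mem_bot] at hm'
  obtain ⟨χ, hχ⟩ := exists_lift_chart I U sq.i₁ (one hyU)
  have hψχ := eq_comp_trans I (Idx.union_le_left I S (Idx.single I hg)) (hψ.trans hχ.symm)
  let ψ' : chart I (Idx.single I hg).carrier →+* sq.K := χ.comp (trans I (Idx.union_le_right I S (Idx.single I hg)))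
  have hψ' : Spec.map (CommRingCat.ofHom ψ') ≫ ι I (Idx.single I hg) = sq.i₁ := by
    rw [← hχ]
    exact specMap_comp_trans I _ χ
  have hψ'R := comp_algebraMap_eq I ((congrArg (· ≫ toBase I) hψ').trans hbase)
  let g' : g ∈ (Idx.single I hg).carrier := Finset.mem_singleton_self g
  have hmem : ∀ z, ψ' z ∈ a.range := by
    refine map_mem (I := I) (S := (Idx.single I hg).carrier) ψ' a.range
      (fun r => ⟨φ r, (RingHom.congr_fun hψ'R r).symm⟩) ?_
    intro s y hs hy
    obtain rfl : s = g := Finset.mem_singleton.1 hs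
    have hgen : ∀ h, ∀ hhG : h ∈ G, ψ' (q I _ g' (hGI hhG)) ∈ a.range := fun h hhG => by
      refine (ValuationRing.mem_integer_iff sq.R sq.K _).1 ((Valuation.mem_integer_iff _ _).2 ?_)
      have e : χ (q I U.carrier (Idx.union_le_left I S (Idx.single I hg) hs₀) hg) *
          χ (q I U.carrier (Idx.union_le_right I S (Idx.single I hg) g') (hGI hhG)) =
          χ (q I U.carrier (Idx.union_le_left I S (Idx.single I hg) hs₀) (hGI hhG)) := by
        rw [← map_mul]
        refine congrArg χ ((isRegular_iff_mem_nonZeroDivisors.2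
          (admits_chart I U.carrier s₀ (Idx.union_le_left I S (Idx.single I hg) hs₀)).1).left ?_)
        show _ * _ = _ * _
        rw [← mul_assoc, mul_q, mul_q, mul_q]
      have e₁ := RingHom.congr_fun hψχ (q I S.carrier hs₀ hg)
      have e₂ := RingHom.congr_fun hψχ (q I S.carrier hs₀ (hGI hhG))
      simp only [RingHom.comp_apply, trans_q] at e₁ e₂
      show v (χ _) ≤ 1
      rw [trans_q]
      have hm := hmax ⟨h, hhG⟩ (Finset.mem_attach _ _)
      simp only [e₁, e₂] at hm
      refine le_of_mul_le_mul_left ?_ (zero_lt_iff.2 ((Valuation.ne_zero_iff v).2 (e₁ ▸ hgne)))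
      rw [mul_one, ← map_mul]
      exact (congrArg v e).trans_le hm
    have key : ∀ y ∈ Ideal.span (G : Set R), ∃ z, ψ' z ∈ a.range ∧
        algebraMap R (chart I (Idx.single I hg).carrier) s * z = algebraMap R _ y := by
      intro y hy
      refine Submodule.span_induction (fun h hh => ⟨_, hgen h hh, mul_q I _ g' (hGI hh)⟩)
        ⟨0, by simp, by simp⟩ ?_ ?_ hy
      · rintro u w - - ⟨b, hb, hb'⟩ ⟨c, hc, hc'⟩
        exact ⟨b + c, by rw [map_add]; exact add_mem hb hc, by rw [mul_add, hb', hc', map_add]⟩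
      · rintro r u - ⟨b, hb, hb'⟩
        refine ⟨algebraMap R _ r * b, ?_, by rw [mul_left_comm, hb', smul_eq_mul, map_mul]⟩
        rw [map_mul]
        exact mul_mem ⟨φ r, (RingHom.congr_fun hψ'R r).symm⟩ hb
    obtain ⟨z, hz, hz'⟩ := key y (hG.symm ▸ hy)
    rwa [(isRegular_iff_mem_nonZeroDivisors.2 (admits_chart I _ s g').1).left ((mul_q I _ g' hy).trans hz'.symm)]
  let e := RingEquiv.ofLeftInverse (f := a) (Function.leftInverse_invFun ha)
  let ψ'' : chart I (Idx.single I hg).carrier →+* sq.R := e.symm.toRingHom.comp (ψ'.codRestrict a.range hmem)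
  have hψ'' : a.comp ψ'' = ψ' :=
    RingHom.ext fun z => congrArg Subtype.val (e.apply_symm_apply (ψ'.codRestrict a.range hmem z))
  refine ⟨⟨⟨Spec.map (CommRingCat.ofHom ψ'') ≫ ι I (Idx.single I hg), ?_, ?_⟩⟩⟩
  · rw [specMap_comp_ι, hψ'']
    exact hψ'
  · rw [Category.assoc, ι_toBase, specMap_comp, ← hφ]
    refine congrArg (fun f => Spec.map (CommRingCat.ofHom f)) (RingHom.ext fun r => ha ?_)
    exact (RingHom.congr_fun hψ'' _).trans (RingHom.congr_fun hψ'R r)

theorem isProper_toBase (hI : I.FG) : IsProper (toBase I) := by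
  haveI := compactSpace_blow I hI
  haveI := locallyOfFiniteType_toBase I hI
  haveI : QuasiCompact (toBase I) := (quasiCompact_iff_compactSpace _).2 inferInstance
  exact IsProper.of_valuativeCriterion _ (ValuativeCriterion.iff.2 ⟨valuative_existence I hI, valuative_uniqueness I⟩)

end Groth.Agent.BlowExist
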